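import Cfsg.Agent.Mrg.Omega.EK3.Rank
import Cfsg.Agent.Mrg.Omega.EDel.QP
import Cfsg.Agent.Mrg.Omega.Node.SymG
import Cfsg.Agent.Mrg.Omega.NO3S.Level.Fam
import Cfsg.Agent.Mrg.Omega.NO3S.MFive.WabF
import Cfsg.Agent.Mrg.Omega.NO3S.Sym.Light
import Cfsg.Agent.Mrg.Omega.ML.MinIrr
import Cfsg.Agent.Mrg.Omega.EDel.GenS

-- merged: Cfsg.Agent.Mrg.Omega.NO3S.MFive.Basic
section

section


/-!
# THEOREM M5 (helper693 #24218): conjugation, the groups `Y_03`, `Y_04`, `M_0`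
-/

set_option autoImplicit false
set_option linter.unusedSectionVars false
set_option linter.unusedVariables false

namespace Cfsg.Agent.Omega.NO3S.MFive

open Subgroup Cfsg Cfsg.Agent.ZN Cfsg.Agent.ZN.ChoiceBase
open Cfsg.Agent.ZN.ChoiceSit
open Cfsg.Agent.Omega.NO3S.EThree
open Cfsg.Agent.Omega.NO3S.EThree.ExactA (eab_mono eab_sup eab_iff)
open Cfsg.Agent.Omega.EK3.Rank (NoOn mem_inf_of_mem_AA jj_inf_le offd_of_mem)
open Cfsg.Agent.Omega.EK3.Lever (Dt)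
open scoped commutatorElement

universe u

variable {G : Type u} [Group G]

/-! ### Permutations of five letters -/

theorem perm_step (τ : Equiv.Perm (Fin 5)) (w w' : Fin 5) :
    ∃ τ' : Equiv.Perm (Fin 5), τ' w = w' ∧ ∀ x, x ≠ w → τ x ≠ w' → τ' x = τ x := by
  refine ⟨Equiv.swap (τ w) w' * τ, ?_, fun x hx hx' => ?_⟩
  · rw [Equiv.Perm.mul_apply, Equiv.swap_apply_left]
  · rw [Equiv.Perm.mul_apply, Equiv.swap_apply_of_ne_of_ne (fun e => hx (τ.injective e)) hx']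

theorem perm_two {a b a' b' : Fin 5} (h : a ≠ b) (h' : a' ≠ b') :
    ∃ τ : Equiv.Perm (Fin 5), τ a = a' ∧ τ b = b' := by
  obtain ⟨τ, h1, -⟩ := perm_step 1 a a'
  obtain ⟨τ', h2, h3⟩ := perm_step τ b b'
  exact ⟨τ', by rw [h3 a h (by rw [h1]; exact h'), h1], h2⟩

theorem perm_three {a b c a' b' c' : Fin 5} (h : a ≠ b) (hc : a ≠ c) (hbc : b ≠ c) (h' : a' ≠ b')
    (hc' : a' ≠ c') (hbc' : b' ≠ c') : ∃ τ : Equiv.Perm (Fin 5), τ a = a' ∧ τ b = b' ∧ τ c = c' := by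
  obtain ⟨τ, h1, h2⟩ := perm_two h h'
  obtain ⟨τ', h3, h4⟩ := perm_step τ c c'
  exact ⟨τ', by rw [h4 a hc (by rw [h1]; exact hc'), h1], by rw [h4 b hbc (by rw [h2]; exact hbc'), h2], h3⟩

theorem perm_four {a b c d a' b' c' d' : Fin 5} (h : a ≠ b) (hc : a ≠ c) (hbc : b ≠ c) (had : a ≠ d)
    (hbd : b ≠ d) (hcd : c ≠ d) (h' : a' ≠ b')
    (hc' : a' ≠ c') (hbc' : b' ≠ c') (had' : a' ≠ d') (hbd' : b' ≠ d') (hcd' : c' ≠ d') :
    ∃ τ : Equiv.Perm (Fin 5), τ a = a' ∧ τ b = b' ∧ τ c = c' ∧ τ d = d' := by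
  obtain ⟨τ, h1, h2, h3⟩ := perm_three h hc hbc h' hc' hbc'
  obtain ⟨τ', h4, h5⟩ := perm_step τ d d'
  exact ⟨τ', by rw [h5 a had (by rw [h1]; exact had'), h1], by rw [h5 b hbd (by rw [h2]; exact hbd'), h2],
    by rw [h5 c hcd (by rw [h3]; exact hcd'), h3], h4⟩

/-! ### `⟨K^H⟩` -/

theorem cj_nc (g : G) (H K : Subgroup G) : cj g (nc H K) = nc (cj g H) (cj g K) := by
  have key : ∀ (g : G) (H K : Subgroup G), cj g (nc H K) ≤ nc (cj g H) (cj g K) := by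
    intro g H K
    unfold nc
    rw [cj, Subgroup.map_iSup]
    refine iSup_le fun x => ?_
    have e : Subgroup.map (MulAut.conj g).toMonoidHom (cj (x : G) K) = cj (g * x * g⁻¹) (cj g K) := by
      have h1 := cj_cj g x K
      rw [cj_cj]
      have : g * (x : G) * g⁻¹ * g = g * x := by group
      rw [this]
      exact h1
    rw [e]
    exact le_iSup (fun y : (cj g H : Subgroup G) => cj (y : G) (cj g K)) ⟨g * x * g⁻¹, ⟨x, x.2, rfl⟩⟩
  refine le_antisymm (key g H K) ?_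
  have h1 := cj_mono g (key g⁻¹ (cj g H) (cj g K))
  rwa [cj_cj_inv, cj_inv_cj, cj_inv_cj] at h1

theorem le_nc (H K : Subgroup G) : K ≤ nc H K := by
  have h1 := le_iSup (fun y : H => cj (y : G) K) 1
  simp only [OneMemClass.coe_one, cj_one] at h1
  exact h1

theorem cj_le_nc {H K : Subgroup G} {h : G} (hh : h ∈ H) : cj h K ≤ nc H K :=
  le_iSup (fun y : H => cj (y : G) K) ⟨h, hh⟩

theorem nc_norm (H K : Subgroup G) : H ≤ normalizer (nc H K : Set G) := by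
  intro x hx
  rw [mem_normalizer_iff_cj, nc, cj, Subgroup.map_iSup]
  refine le_antisymm (iSup_le fun y => ?_) (iSup_le fun y => ?_)
  · have e : Subgroup.map (MulAut.conj x).toMonoidHom (cj (y : G) K) = cj (x * y : G) K := cj_cj x y K
    rw [e]
    exact cj_le_nc (mul_mem hx y.2)
  · have h1 : cj (x⁻¹ * y : G) K ≤ nc H K := cj_le_nc (mul_mem (inv_mem hx) y.2)
    have h2 : Subgroup.map (MulAut.conj x).toMonoidHom (cj (x⁻¹ * y : G) K) = cj (y : G) K := by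
      have := cj_cj x (x⁻¹ * y) K
      rw [mul_inv_cancel_left] at this
      exact this
    rw [← h2]
    exact le_iSup (fun z : H => Subgroup.map (MulAut.conj x).toMonoidHom (cj (z : G) K))
      ⟨x⁻¹ * y, mul_mem (inv_mem hx) y.2⟩

theorem nc_le {H K R : Subgroup G} (hK : K ≤ R) (hH : H ≤ normalizer (R : Set G)) : nc H K ≤ R :=
  iSup_le fun y => (cj_mono (y : G) hK).trans (cj_eq_of_mem_normalizer (hH y.2)).le

theorem nc_mono {H H' K K' : Subgroup G} (hH : H ≤ H') (hK : K ≤ K') : nc H K ≤ nc H' K' :=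
  nc_le (hK.trans (le_nc _ _)) (hH.trans (nc_norm _ _))

theorem norm_sup {R R' : Subgroup G} {x : G} (h : x ∈ normalizer (R : Set G)) (h' : x ∈ normalizer (R' : Set G)) :
    x ∈ normalizer ((R ⊔ R' : Subgroup G) : Set G) := by
  rw [mem_normalizer_iff_cj, cj, Subgroup.map_sup]
  have h1 := cj_eq_of_mem_normalizer h
  have h2 := cj_eq_of_mem_normalizer h'
  rw [cj] at h1 h2
  rw [h1, h2]

/-! ### Conjugation by elements inducing a permutation of the letters -/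

/-- `g ∈ L` induces `σ` -/
structure Ind (L : Subgroup G) (z : Fin 5 → G) (g : G) (σ : Equiv.Perm (Fin 5)) : Prop where
  mem : g ∈ L
  eq : ∀ a, g * z a * g⁻¹ = z (σ a)

section ind

variable {L : Subgroup G} {z : Fin 5 → G} {g : G} {σ : Equiv.Perm (Fin 5)}

theorem Ind.inv (h : Ind L z g σ) : Ind L z g⁻¹ σ⁻¹ where
  mem := inv_mem h.mem
  eq := fun a => by
    have h1 := h.eq (σ⁻¹ a)
    have e : σ (σ⁻¹ a) = a := by simp
    rw [e] at h1
    rw [← h1]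
    group

theorem Ind.one : Ind L z 1 1 where
  mem := one_mem _
  eq := fun a => by simp

theorem Ind.mul {g' : G} {σ' : Equiv.Perm (Fin 5)} (h : Ind L z g σ) (h' : Ind L z g' σ') :
    Ind L z (g * g') (σ * σ') where
  mem := mul_mem h.mem h'.mem
  eq := fun a => by
    rw [Equiv.Perm.mul_apply, ← h.eq, ← h'.eq]
    group

theorem Ind.X_le (h : Ind L z g σ) (i j : Fin 5) : cj g (X z i j) ≤ X z (σ i) (σ j) := by
  rintro _ ⟨x, hx, rfl⟩
  change g * x * g⁻¹ ∈ _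
  rw [X, mem_centralizer_iff]
  rintro _ ⟨k, hk1, hk2, rfl⟩
  have e : z k = g * z (σ⁻¹ k) * g⁻¹ := by rw [h.eq]; simp
  have h1 : z (σ⁻¹ k) * x = x * z (σ⁻¹ k) := by
    refine mem_centralizer_iff.1 hx _ ⟨σ⁻¹ k, ?_, ?_, rfl⟩
    · rintro rfl
      exact hk1 (by simp)
    · rintro rfl
      exact hk2 (by simp)
  rw [e]
  calc g * z (σ⁻¹ k) * g⁻¹ * (g * x * g⁻¹) = g * (z (σ⁻¹ k) * x) * g⁻¹ := by group
    _ = g * (x * z (σ⁻¹ k)) * g⁻¹ := by rw [h1]
    _ = g * x * g⁻¹ * (g * z (σ⁻¹ k) * g⁻¹) := by group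

/-- a function `F` of two letters with `cj g (F a b) ≤ F (σ a) (σ b)` for all `g`, `σ` -/
theorem eq_of_le {F : Fin 5 → Fin 5 → Subgroup G}
    (hF : ∀ g σ, Ind L z g σ → ∀ a b, cj g (F a b) ≤ F (σ a) (σ b)) (h : Ind L z g σ) (a b : Fin 5) :
    cj g (F a b) = F (σ a) (σ b) := by
  refine le_antisymm (hF g σ h a b) ?_
  have h1 := cj_mono g (hF g⁻¹ σ⁻¹ h.inv (σ a) (σ b))
  rw [cj_cj_inv] at h1
  simpa using h1

theorem Ind.X_eq (h : Ind L z g σ) (i j : Fin 5) : cj g (X z i j) = X z (σ i) (σ j) :=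
  eq_of_le (F := X z) (fun g σ h => h.X_le) h i j

theorem cj_closure (g : G) (s : Set G) : cj g (closure s) = closure ((fun x => g * x * g⁻¹) '' s) := by
  rw [cj, MonoidHom.map_closure]
  rfl

theorem Ind.Zc_le (h : Ind L z g σ) (a b : Fin 5) : cj g (Zc z a b) ≤ Zc z (σ a) (σ b) := by
  rw [Zc, cj_closure]
  refine (closure_le _).2 ?_
  rintro _ ⟨_, ⟨c, h1, h2, rfl⟩, rfl⟩
  refine subset_closure ⟨σ c, fun e => h1 (σ.injective e), fun e => h2 (σ.injective e), h.eq c⟩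

theorem Ind.Zc_eq (h : Ind L z g σ) (a b : Fin 5) : cj g (Zc z a b) = Zc z (σ a) (σ b) :=
  eq_of_le (F := Zc z) (fun g σ h => h.Zc_le) h a b

theorem Ind.V_le (h : Ind L z g σ) : cj g (V z) ≤ V z := by
  rw [V, cj_closure]
  refine (closure_le _).2 ?_
  rintro _ ⟨_, ⟨c, rfl⟩, rfl⟩
  exact subset_closure ⟨σ c, (h.eq c).symm⟩

theorem Ind.V_eq (h : Ind L z g σ) : cj g (V z) = V z :=
  eq_of_le (F := fun _ _ => V z) (fun g σ h _ _ => h.V_le) h 0 0

theorem Ind.cl_le (h : Ind L z g σ) (a b : Fin 5) :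
    cj g (L ⊓ centralizer {z a, z b}) ≤ L ⊓ centralizer {z (σ a), z (σ b)} := by
  rintro _ ⟨x, hx0, rfl⟩
  obtain ⟨hxL, hx⟩ := mem_inf.1 hx0
  change g * x * g⁻¹ ∈ _
  refine mem_inf.2 ⟨mul_mem (mul_mem h.mem hxL) (inv_mem h.mem), ?_⟩
  rw [mem_centralizer_iff] at *
  have key : ∀ c, z c * x = x * z c → z (σ c) * (g * x * g⁻¹) = g * x * g⁻¹ * z (σ c) := by
    intro c hc
    rw [← h.eq]
    calc g * z c * g⁻¹ * (g * x * g⁻¹) = g * (z c * x) * g⁻¹ := by group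
      _ = g * (x * z c) * g⁻¹ := by rw [hc]
      _ = g * x * g⁻¹ * (g * z c * g⁻¹) := by group
  rintro y (rfl | hy)
  · exact key _ (hx _ (Set.mem_insert _ _))
  · rw [Set.mem_singleton_iff] at hy
    subst hy
    exact key _ (hx _ (Set.mem_insert_of_mem _ rfl))

theorem Ind.Y_le (h : Ind L z g σ) (a b : Fin 5) : cj g (Y L z a b) ≤ Y L z (σ a) (σ b) := by
  rw [Y, cj, Subgroup.map_sup]
  refine sup_le ((h.cl_le a b).trans le_sup_left) ?_
  simp only [Subgroup.map_iSup]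
  refine iSup_le fun k => iSup_le fun l => iSup_le fun hkl => ?_
  refine (h.X_le k l).trans (le_sup_of_le_right ?_)
  refine le_iSup_of_le (σ k) (le_iSup_of_le (σ l) (le_iSup_of_le ?_ le_rfl))
  simpa using hkl

theorem Ind.Y_eq (h : Ind L z g σ) (a b : Fin 5) : cj g (Y L z a b) = Y L z (σ a) (σ b) :=
  eq_of_le (F := Y L z) (fun g σ h => h.Y_le) h a b

theorem Ind.N_eq (h : Ind L z g σ) (a b : Fin 5) : cj g (N L z a b) = N L z (σ a) (σ b) := by
  rw [N, cj_nc, h.Y_eq, h.Zc_eq, N]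

theorem Ind.M_le (h : Ind L z g σ) (a : Fin 5) : cj g (M L z a) ≤ M L z (σ a) := by
  rw [M, cj, Subgroup.map_sup]
  refine sup_le ?_ ?_
  · have h1 := h.cl_le a a
    simp only [Set.mem_singleton_iff, Set.insert_eq_of_mem] at h1
    exact h1.trans le_sup_left
  · simp only [Subgroup.map_iSup]
    refine iSup_le fun k => iSup_le fun l => iSup_le fun hkl => ?_
    refine (h.X_le k l).trans (le_sup_of_le_right ?_)
    refine le_iSup_of_le (σ k) (le_iSup_of_le (σ l) (le_iSup_of_le ?_ le_rfl))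
    simpa using hkl

theorem Ind.M_eq (h : Ind L z g σ) (a : Fin 5) : cj g (M L z a) = M L z (σ a) :=
  eq_of_le (F := fun a _ => M L z a) (fun g σ h a _ => h.M_le a) h a a

theorem Ind.W_eq (h : Ind L z g σ) (a : Fin 5) : cj g (W L z a) = W L z (σ a) := by
  rw [W, cj_nc, h.M_eq, h.V_eq, W]

end ind

end Cfsg.Agent.Omega.NO3S.MFive

end

section


/-!
# THEOREM M5 (helper693 #24218): the frame `(12; 0 | 3, 4)`
-/

set_option autoImplicit false
set_option linter.unusedSectionVars false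
set_option linter.unusedVariables false

namespace Cfsg.Agent.Omega.NO3S.MFive

open Subgroup Cfsg Cfsg.Agent.ZN Cfsg.Agent.ZN.ChoiceBase
open Cfsg.Agent.ZN.ChoiceSit
open Cfsg.Agent.Omega.NO3S.EThree
open Cfsg.Agent.Omega.NO3S.EThree.ExactA (eab_mono eab_sup eab_iff)
open Cfsg.Agent.Omega.EK3.Rank (NoOn mem_inf_of_mem_AA jj_inf_le offd_of_mem)
open Cfsg.Agent.Omega.EK3.Lever (Dt)
open scoped commutatorElement

universe u

variable {G : Type u} [Group G]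

/-! ### Members -/

section mem

variable {L : Subgroup G} {z : Fin 5 → G}

theorem z_mem_V (a : Fin 5) : z a ∈ V z := subset_closure ⟨a, rfl⟩

theorem z_mem_Zc {a b c : Fin 5} (h1 : c ≠ a) (h2 : c ≠ b) : z c ∈ Zc z a b := subset_closure ⟨c, h1, h2, rfl⟩

theorem mem_X_iff {i j : Fin 5} {x : G} : x ∈ X z i j ↔ ∀ k, k ≠ i → k ≠ j → z k * x = x * z k := by
  rw [X, mem_centralizer_iff]
  constructor
  · exact fun h k h1 h2 => h _ ⟨k, h1, h2, rfl⟩
  · rintro h _ ⟨k, h1, h2, rfl⟩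
    exact h k h1 h2

theorem X_le_Y {a b k l : Fin 5} (h : k ≠ l) (h1 : k ≠ a) (h2 : k ≠ b) (h3 : l ≠ a) (h4 : l ≠ b) :
    X z k l ≤ Y L z a b :=
  le_sup_of_le_right (le_iSup_of_le k (le_iSup_of_le l (le_iSup_of_le ⟨h, ⟨h1, h2⟩, h3, h4⟩ le_rfl)))

theorem X_le_Mij {a k l : Fin 5} (h : k ≠ l) (h1 : k ≠ a) (h3 : l ≠ a) : X z k l ≤ M L z a :=
  le_sup_of_le_right (le_iSup_of_le k (le_iSup_of_le l (le_iSup_of_le ⟨h, h1, h3⟩ le_rfl)))

theorem cl_le_Y (a b : Fin 5) : L ⊓ centralizer {z a, z b} ≤ Y L z a b := le_sup_left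

theorem cl_le_M (a : Fin 5) : L ⊓ centralizer {z a} ≤ M L z a := le_sup_left

theorem Y_le_M_left (a b : Fin 5) : Y L z a b ≤ M L z a := by
  refine sup_le ((inf_le_inf_left _ (centralizer_le ?_)).trans (cl_le_M a)) ?_
  · intro x hx
    rw [Set.mem_singleton_iff] at hx
    exact hx ▸ Set.mem_insert _ _
  · exact iSup_le fun k => iSup_le fun l => iSup_le fun h => X_le_Mij h.1 h.2.1.1 h.2.2.1

theorem Y_symm (a b : Fin 5) : Y L z a b ≤ Y L z b a := by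
  refine sup_le ((inf_le_inf_left _ (le_of_eq ?_)).trans (cl_le_Y b a)) ?_
  · rw [Set.pair_comm]
  · exact iSup_le fun k => iSup_le fun l => iSup_le fun h => X_le_Y h.1 h.2.1.2 h.2.1.1 h.2.2.2 h.2.2.1

theorem Y_comm (a b : Fin 5) : Y L z a b = Y L z b a := le_antisymm (Y_symm a b) (Y_symm b a)

theorem Y_le_M_right (a b : Fin 5) : Y L z a b ≤ M L z b := (Y_symm a b).trans (Y_le_M_left b a)

theorem Zc_le_V (a b : Fin 5) : Zc z a b ≤ V z := by
  refine (closure_le _).2 ?_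
  rintro _ ⟨c, -, -, rfl⟩
  exact z_mem_V c

theorem N_le_W_left (a b : Fin 5) : N L z a b ≤ W L z a := nc_mono (Y_le_M_left a b) (Zc_le_V a b)

theorem N_le_W_right (a b : Fin 5) : N L z a b ≤ W L z b := nc_mono (Y_le_M_right a b) (Zc_le_V a b)

theorem z_mem_N {a b c : Fin 5} (h1 : c ≠ a) (h2 : c ≠ b) : z c ∈ N L z a b := le_nc _ _ (z_mem_Zc h1 h2)

theorem V_le_W (a : Fin 5) : V z ≤ W L z a := le_nc _ _

theorem Y_norm_N (a b : Fin 5) : Y L z a b ≤ normalizer (N L z a b : Set G) := nc_norm _ _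

theorem M_norm_W (a : Fin 5) : M L z a ≤ normalizer (W L z a : Set G) := nc_norm _ _

end mem

variable {L T : Subgroup G} {z : Fin 5 → G}

section frame

variable (h : Fr5 L T z)
include h

theorem Fr5.ind (σ : Equiv.Perm (Fin 5)) : ∃ g, Ind L z g σ := by
  obtain ⟨g, h1, h2⟩ := h.full σ
  exact ⟨g, h1, h2⟩

theorem Fr5.ind_of {g : G} (hg : g ∈ L) : ∃ σ, Ind L z g σ := by
  obtain ⟨σ, h1⟩ := h.act g hg
  exact ⟨σ, hg, h1⟩

theorem Fr5.fix {g : G} {σ : Equiv.Perm (Fin 5)} (hg : Ind L z g σ) {a : Fin 5} (ha : z a * g = g * z a) :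
    σ a = a := by
  apply h.inj
  rw [← hg.eq, ← ha]
  group

omit h in
theorem Ind.comm_of {g : G} {σ : Equiv.Perm (Fin 5)} (hg : Ind L z g σ) {a : Fin 5} (ha : σ a = a) :
    z a * g = g * z a := by
  have := hg.eq a
  rw [ha] at this
  exact (mul_inv_eq_iff_eq_mul.1 this).symm

omit h in
theorem Ind.mem_cl {g : G} {σ : Equiv.Perm (Fin 5)} (hg : Ind L z g σ) {a b : Fin 5} (ha : σ a = a)
    (hb : σ b = b) : g ∈ L ⊓ centralizer {z a, z b} := by
  refine mem_inf.2 ⟨hg.mem, mem_centralizer_iff.2 ?_⟩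
  rintro y (rfl | hy)
  · exact hg.comm_of ha
  · rw [Set.mem_singleton_iff] at hy
    subst hy
    exact hg.comm_of hb

omit h in
theorem mem_cl_iff {g : G} {a b : Fin 5} :
    g ∈ L ⊓ centralizer {z a, z b} ↔ g ∈ L ∧ z a * g = g * z a ∧ z b * g = g * z b := by
  rw [mem_inf, mem_centralizer_iff]
  constructor
  · exact fun hh => ⟨hh.1, hh.2 _ (Set.mem_insert _ _), hh.2 _ (Set.mem_insert_of_mem _ rfl)⟩
  · rintro ⟨h1, h2, h3⟩
    refine ⟨h1, ?_⟩
    rintro y (rfl | hy)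
    · exact h2
    · rw [Set.mem_singleton_iff] at hy
      subst hy
      exact h3

/-- an element of `L` fixing `z_0`, `z_3`, `z_4` lies in `X_12` -/
theorem mem_X12 {g : G} (h0 : z 0 * g = g * z 0) (h3 : z 3 * g = g * z 3) (h4 : z 4 * g = g * z 4) :
    g ∈ X z 1 2 := by
  rw [mem_X_iff]
  intro k h1 h2
  fin_cases k
  · exact h0
  · exact absurd rfl h1
  · exact absurd rfl h2
  · exact h3
  · exact h4

theorem Fr5.C_le_X (i j : Fin 5) : centralizer (Set.range z) ≤ X z i j := by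
  refine centralizer_le ?_
  rintro _ ⟨k, -, -, rfl⟩
  exact ⟨k, rfl⟩

omit h in
theorem Y_le_cent (a b : Fin 5) : Y L z a b ≤ centralizer {z a, z b} := by
  refine sup_le inf_le_right (iSup_le fun k => iSup_le fun l => iSup_le fun hh => ?_)
  intro x hx
  rw [mem_X_iff] at hx
  rw [mem_centralizer_iff]
  rintro y (rfl | hy)
  · exact hx _ hh.2.1.1.symm hh.2.2.1.symm
  · rw [Set.mem_singleton_iff] at hy
    subst hy
    exact hx _ hh.2.1.2.symm hh.2.2.2.symm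

theorem Fr5.Y04_cent {x : G} (hx : x ∈ Y L z 0 4) (h3 : z 3 * x = x * z 3) : x ∈ X z 1 2 := by
  have h1 := mem_centralizer_iff.1 (Y_le_cent 0 4 hx)
  exact mem_X12 h (h1 _ (Set.mem_insert _ _)) h3 (h1 _ (Set.mem_insert_of_mem _ rfl))

/-- `M_0 = ⟨Y_03, Y_04⟩` -/
theorem Fr5.M_le : M L z 0 ≤ Y L z 0 3 ⊔ Y L z 0 4 := by
  have hcl : L ⊓ centralizer {z 0} ≤ Y L z 0 3 ⊔ Y L z 0 4 := by
    intro g hg
    obtain ⟨hgL, hg0⟩ := mem_inf.1 hg
    rw [mem_centralizer_iff] at hg0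
    obtain ⟨σ, hσ⟩ := h.ind_of hgL
    have h0 : σ 0 = 0 := h.fix hσ (hg0 _ rfl)
    -- `τ` fixes `0` and `4`, `τ (σ 3) = 3`
    have key : ∀ (g : G) (σ : Equiv.Perm (Fin 5)), Ind L z g σ → σ 0 = 0 → σ 3 ≠ 4 → g ∈ Y L z 0 3 ⊔ Y L z 0 4 := by
      intro g σ hσ h0 h3
      have h30 : σ 3 ≠ 0 := fun e => by
        have := σ.injective (e.trans h0.symm)
        exact absurd this (by decide)
      obtain ⟨τ, t0, t4, t3⟩ := perm_three (a := 0) (b := 4) (c := σ 3) (a' := 0) (b' := 4) (c' := 3) (by decide)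
        h30.symm h3.symm (by decide) (by decide) (by decide)
      obtain ⟨y, hy⟩ := h.ind τ
      have h1 : y * g ∈ Y L z 0 3 ⊔ Y L z 0 4 := by
        refine mem_sup_left (cl_le_Y 0 3 ((hy.mul hσ).mem_cl ?_ ?_))
        · rw [Equiv.Perm.mul_apply, h0, t0]
        · rw [Equiv.Perm.mul_apply, t3]
      have h2 : y ∈ Y L z 0 3 ⊔ Y L z 0 4 := mem_sup_right (cl_le_Y 0 4 (hy.mem_cl t0 t4))
      have h3 := mul_mem (inv_mem h2) h1
      rwa [inv_mul_cancel_left] at h3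
    by_cases h3 : σ 3 = 4
    · obtain ⟨τ, t0, t3, t4⟩ := perm_three (a := 0) (b := 3) (c := 4) (a' := 0) (b' := 3) (c' := 1) (by decide)
        (by decide) (by decide) (by decide) (by decide) (by decide)
      obtain ⟨y, hy⟩ := h.ind τ
      have h1 : y * g ∈ Y L z 0 3 ⊔ Y L z 0 4 := by
        refine key _ _ (hy.mul hσ) ?_ ?_
        · rw [Equiv.Perm.mul_apply, h0, t0]
        · rw [Equiv.Perm.mul_apply, h3, t4]
          decide
      have h2 : y ∈ Y L z 0 3 ⊔ Y L z 0 4 := mem_sup_left (cl_le_Y 0 3 (hy.mem_cl t0 t3))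
      have h3 := mul_mem (inv_mem h2) h1
      rwa [inv_mul_cancel_left] at h3
    · exact key g σ hσ h0 h3
  refine sup_le hcl (iSup_le fun k => iSup_le fun l => iSup_le fun hh => ?_)
  -- `X_kl` is conjugate to `X_12` under `C_L(z_0)`
  obtain ⟨τ, t0, t1, t2⟩ := perm_three (a := 0) (b := 1) (c := 2) (a' := 0) (b' := k) (c' := l) (by decide)
    (by decide) (by decide) hh.2.1.symm hh.2.2.symm hh.1
  obtain ⟨y, hy⟩ := h.ind τ
  have h1 : y ∈ Y L z 0 3 ⊔ Y L z 0 4 := by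
    apply hcl
    refine mem_inf.2 ⟨hy.mem, mem_centralizer_iff.2 ?_⟩
    rintro _ rfl
    exact hy.comm_of t0
  have h2 := hy.X_eq 1 2
  rw [t1, t2] at h2
  rw [← h2]
  have h3 : X z 1 2 ≤ Y L z 0 3 ⊔ Y L z 0 4 :=
    (X_le_Y (by decide) (by decide) (by decide) (by decide) (by decide)).trans le_sup_left
  have h4 := cj_mono y h3
  rwa [cj_eq_of_mem_normalizer (Subgroup.le_normalizer h1)] at h4

theorem Fr5.le_M : Y L z 0 3 ⊔ Y L z 0 4 ≤ M L z 0 := sup_le (Y_le_M_left 0 3) (Y_le_M_left 0 4)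

theorem Fr5.X_le_Y03 : X z 1 2 ≤ Y L z 0 3 := X_le_Y (by decide) (by decide) (by decide) (by decide) (by decide)

theorem Fr5.X_le_Y04 : X z 1 2 ≤ Y L z 0 4 := X_le_Y (by decide) (by decide) (by decide) (by decide) (by decide)

/-- `g ∈ L` inducing `(34)` -/
theorem Fr5.swap : ∃ g σ, Ind L z g σ ∧ σ 0 = 0 ∧ σ 1 = 1 ∧ σ 2 = 2 ∧ σ 3 = 4 ∧ σ 4 = 3 := by
  obtain ⟨g, hg⟩ := h.ind (Equiv.swap 3 4)
  exact ⟨g, _, hg, by decide, by decide, by decide, by decide, by decide⟩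

theorem Fr5.z_ne (a : Fin 5) : z a ≠ 1 := by
  intro e
  have hall : ∀ b, z b = 1 := by
    intro b
    obtain ⟨τ, t1, -⟩ := perm_step 1 a b
    obtain ⟨y, hy⟩ := h.ind τ
    rw [← t1, ← hy.eq, e]
    group
  have := h.inj ((hall 0).trans (hall 1).symm)
  exact absurd this (by decide)

/-- `N_04 = ⟨z_3^(Y_04)⟩` -/
theorem Fr5.N04_le : N L z 0 4 ≤ nc (Y L z 0 4) (zpowers (z 3)) := by
  refine nc_le ((closure_le _).2 ?_) (nc_norm _ _)
  rintro _ ⟨c, h1, h2, rfl⟩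
  by_cases h3 : c = 3
  · rw [h3]
    exact le_nc _ _ (mem_zpowers _)
  obtain ⟨τ, t0, t4, t3⟩ := perm_three (a := 0) (b := 4) (c := 3) (a' := 0) (b' := 4) (c' := c) (by decide)
    (by decide) (by decide) (by decide) h1.symm h2.symm
  obtain ⟨y, hy⟩ := h.ind τ
  have h5 : y ∈ Y L z 0 4 := cl_le_Y 0 4 (hy.mem_cl t0 t4)
  have h6 : cj y (zpowers (z 3)) ≤ nc (Y L z 0 4) (zpowers (z 3)) := cj_le_nc h5
  apply h6
  refine ⟨z 3, mem_zpowers _, ?_⟩
  change y * z 3 * y⁻¹ = z c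
  rw [hy.eq, t3]

/-- `V_12 = ⟨z_0, z_3, z_4⟩` -/
theorem Fr5.V_le_nc : V z ≤ nc (M L z 0) (Zc z 1 2) := by
  refine (closure_le _).2 ?_
  rintro _ ⟨c, rfl⟩
  by_cases h1 : c ≠ 1 ∧ c ≠ 2
  · exact le_nc _ _ (z_mem_Zc h1.1 h1.2)
  have h0 : c ≠ 0 := by
    rintro rfl
    exact h1 ⟨by decide, by decide⟩
  obtain ⟨τ, t0, t3⟩ := perm_two (a := 0) (b := 3) (a' := 0) (b' := c) (by decide) h0.symm
  obtain ⟨y, hy⟩ := h.ind τ
  have h5 : y ∈ M L z 0 := by
    apply cl_le_M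
    refine mem_inf.2 ⟨hy.mem, mem_centralizer_iff.2 ?_⟩
    rintro _ rfl
    exact hy.comm_of t0
  have h6 : cj y (Zc z 1 2) ≤ nc (M L z 0) (Zc z 1 2) := cj_le_nc h5
  apply h6
  refine ⟨z 3, z_mem_Zc (by decide) (by decide), ?_⟩
  change y * z 3 * y⁻¹ = z c
  rw [hy.eq, t3]

theorem Fr5.X_cent_Zc : X z 1 2 ≤ centralizer (Zc z 1 2 : Set G) := by
  rw [Subgroup.le_centralizer_iff]
  refine (closure_le _).2 ?_
  rintro _ ⟨c, h1, h2, rfl⟩
  rw [SetLike.mem_coe, mem_centralizer_iff]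
  intro x hx
  exact (mem_X_iff.1 hx c h1 h2).symm

variable [Finite G]

theorem Fr5.W_abel : W L z 0 ≤ centralizer (W L z 0 : Set G) := (eab_iff.1 h.wab).1

theorem Fr5.W_two : IsPGroup 2 (W L z 0) := by
  intro x
  refine ⟨1, Subtype.ext ?_⟩
  have := (eab_iff.1 h.wab).2 x x.2
  simpa using this

theorem Fr5.X_le_M : X z 1 2 ≤ M L z 0 := (h.X_le_Y04).trans (Y_le_M_left 0 4)

theorem Fr5.W_le_X : W L z 0 ≤ X z 1 2 := by
  intro x hx
  rw [mem_X_iff]
  intro k _ _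
  exact mem_centralizer_iff.1 (h.W_abel hx) _ (V_le_W 0 (z_mem_V k))

/-- `E = W_0 ≤ O = O_2(X_12)` -/
theorem Fr5.W_le_O : W L z 0 ≤ o2 (X z 1 2) := ChoiceSit.le_o2 h.W_two h.W_le_X (h.X_le_M.trans (M_norm_W 0))

theorem Fr5.N04_le_W : N L z 0 4 ≤ W L z 0 := N_le_W_left 0 4

theorem Fr5.N03_le_W : N L z 0 3 ≤ W L z 0 := N_le_W_left 0 3

theorem Fr5.eab04 : IsElementaryAbelian 2 (N L z 0 4 : Subgroup G) := eab_mono h.wab h.N04_le_W

theorem Fr5.eab03 : IsElementaryAbelian 2 (N L z 0 3 : Subgroup G) := eab_mono h.wab h.N03_le_W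

theorem Fr5.sylX : Syl T (X z 1 2) :=
  ⟨h.TX, h.syl.2.1, fun Q h1 h2 h3 => h.syl.2.2 Q (h1.trans h.X_le_Y04) h2 h3⟩

theorem Fr5.TY : T ≤ Y L z 0 4 := h.syl.1

/-- `O_2(Y_04) = C_O(N_04)` -/
theorem Fr5.o2_Y04 : o2 (Y L z 0 4) = o2 (X z 1 2) ⊓ centralizer (N L z 0 4 : Set G) := by
  apply le_antisymm
  · have h1 : o2 (Y L z 0 4) ≤ X z 1 2 := (ChoiceSit.o2_le_syl h.syl).trans h.TX
    refine le_inf (ChoiceSit.le_o2 (ChoiceSit.isPGroup_o2 _) h1 (h.X_le_Y04.trans (ChoiceSit.le_normalizer_o2 _))) ?_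
    rw [Subgroup.le_centralizer_iff]
    refine h.N04_le.trans (iSup_le fun y => ?_)
    have h2 : zpowers (z 3) ≤ centralizer (o2 (Y L z 0 4) : Set G) := by
      rw [zpowers_le, mem_centralizer_iff]
      intro x hx
      exact (mem_X_iff.1 (h1 hx) 3 (by decide) (by decide)).symm
    have h3 := cj_mono (y : G) h2
    rwa [cj_centralizer, cj_eq_of_mem_normalizer (ChoiceSit.le_normalizer_o2 _ y.2)] at h3
  · -- `C := C_(Y_04)(N_04) ≤ X_12` is normal in `Y_04`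
    set C : Subgroup G := Y L z 0 4 ⊓ centralizer (N L z 0 4 : Set G) with hC
    have hCX : C ≤ X z 1 2 := by
      intro x hx
      obtain ⟨h1, h2⟩ := mem_inf.1 hx
      exact h.Y04_cent h1 (mem_centralizer_iff.1 h2 _ (z_mem_N (by decide) (by decide)))
    have hYC : Y L z 0 4 ≤ normalizer (C : Set G) := by
      intro y hy
      rw [mem_normalizer_iff_cj, hC, cj_inf, cj_centralizer, cj_eq_of_mem_normalizer (Y_norm_N 0 4 hy),
        cj_eq_of_mem_normalizer (Subgroup.le_normalizer hy)]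
    have h1 : o2 (X z 1 2) ⊓ centralizer (N L z 0 4 : Set G) ≤ o2 C := by
      have h2 : o2 (X z 1 2) ⊓ centralizer (N L z 0 4 : Set G) ≤ C :=
        le_inf (inf_le_left.trans ((ChoiceSit.o2_le _).trans h.X_le_Y04)) inf_le_right
      refine ChoiceSit.le_o2 ((ChoiceSit.isPGroup_o2 _).to_le inf_le_left) h2 ?_
      intro c hc
      rw [mem_normalizer_iff_cj, cj_inf, cj_centralizer, cj_eq_of_mem_normalizer (ChoiceSit.le_normalizer_o2 _ (hCX hc)),
        cj_eq_of_mem_normalizer (Y_norm_N 0 4 ((inf_le_left : C ≤ _) hc))]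
    refine h1.trans (ChoiceSit.le_o2 (ChoiceSit.isPGroup_o2 _) ((ChoiceSit.o2_le _).trans inf_le_left) ?_)
    intro y hy
    rw [mem_normalizer_iff_cj, ← o2_cj, cj_eq_of_mem_normalizer (hYC hy)]

end frame

end Cfsg.Agent.Omega.NO3S.MFive

end

section


/-!
# THEOREM M5 (helper693 #24218): `⟨L, X_12⟩` is 2-local

* `Fr5.lever` : (3) an elementary abelian `F ≤ O` moving `N_04` with `[W_0, F] ≤ N_04`, or all `J_ab` are equal;
* `Fr5.gen` : (4) `Y_04 = K X_12`;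
* `Fr5.local` : **THEOREM M5**.
-/

set_option autoImplicit false
set_option linter.unusedSectionVars false
set_option linter.unusedVariables false

namespace Cfsg.Agent.Omega.NO3S.MFive

open Subgroup Cfsg Cfsg.Agent.ZN Cfsg.Agent.ZN.ChoiceBase
open Cfsg.Agent.ZN.ChoiceSit
open Cfsg.Agent.Omega.NO3S.EThree
open Cfsg.Agent.Omega.NO3S.EThree.ExactA (eab_mono eab_sup eab_iff)
open Cfsg.Agent.Omega.EK3.Rank (NoOn mem_inf_of_mem_AA jj_inf_le offd_of_mem exists_moving card_jj_of_cj)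
open Cfsg.Agent.Omega.EK3.Lever (Dt relIndex_cj)
open Cfsg.Agent.Omega.ESym.CoreS (mem_norm_of_le jj_norm jj_ne_bot)
open scoped commutatorElement

universe u

variable {G : Type u} [Group G] [Finite G] {L T : Subgroup G} {z : Fin 5 → G}

section main

variable (h : Fr5 L T z)
include h

theorem Fr5.swap' : ∃ g, ∃ σ, Ind L z g σ ∧ cj g (X z 1 2) = X z 1 2 ∧ cj g (o2 (X z 1 2)) = o2 (X z 1 2) ∧
    cj g (N L z 0 4) = N L z 0 3 ∧ cj g (N L z 0 3) = N L z 0 4 ∧ cj g (Y L z 0 4) = Y L z 0 3 ∧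
    cj g (Y L z 0 3) = Y L z 0 4 ∧ cj g (W L z 0) = W L z 0 := by
  obtain ⟨g, σ, hg, h0, h1, h2, h3, h4⟩ := h.swap
  have hX : cj g (X z 1 2) = X z 1 2 := by rw [hg.X_eq, h1, h2]
  refine ⟨g, σ, hg, hX, ?_, ?_, ?_, ?_, ?_, ?_⟩
  · rw [← o2_cj, hX]
  · rw [hg.N_eq, h0, h4]
  · rw [hg.N_eq, h0, h3]
  · rw [hg.Y_eq, h0, h4]
  · rw [hg.Y_eq, h0, h3]
  · rw [hg.W_eq, h0]

theorem Fr5.no03 : NoOn (o2 (X z 1 2)) (N L z 0 3) := by
  obtain ⟨g, σ, hg, hX, hO, h43, h34, -, -, -⟩ := h.swap'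
  intro A hA hAO
  have h1 := h.no (cj g A) (isElementaryAbelian_cj g hA) (by
    have := cj_mono g hAO
    rwa [hO] at this)
  rw [← h34, ← cj_centralizer, ← cj_centralizer, relIndex_cj, relIndex_cj] at h1
  exact h1

theorem Fr5.o2_Y03 : o2 (Y L z 0 3) = o2 (X z 1 2) ⊓ centralizer (N L z 0 3 : Set G) := by
  obtain ⟨g, σ, hg, hX, hO, h43, h34, y43, y34, -⟩ := h.swap'
  have h1 := congrArg (cj g) h.o2_Y04
  rwa [← o2_cj, y43, cj_inf, cj_centralizer, h43, hO] at h1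

theorem Fr5.N04_le_O : N L z 0 4 ≤ o2 (X z 1 2) := h.N04_le_W.trans h.W_le_O

theorem Fr5.N03_le_O : N L z 0 3 ≤ o2 (X z 1 2) := h.N03_le_W.trans h.W_le_O

theorem Fr5.O_le_Y04 : o2 (X z 1 2) ≤ Y L z 0 4 := (ChoiceSit.o2_le _).trans h.X_le_Y04

theorem Fr5.O_le_Y03 : o2 (X z 1 2) ≤ Y L z 0 3 := (ChoiceSit.o2_le _).trans h.X_le_Y03

theorem Fr5.dt : Dt (o2 (X z 1 2)) (W L z 0) (Zc z 1 2) (fun b : Bool => cond b (Y L z 0 3) (Y L z 0 4))
    (fun b : Bool => cond b (N L z 0 3) (N L z 0 4)) where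
  ab := h.W_abel
  OY := by
    rintro (_ | _)
    · exact h.O_le_Y04
    · exact h.O_le_Y03
  YE := by
    rintro (_ | _)
    · exact (Y_le_M_left 0 4).trans (M_norm_W 0)
    · exact (Y_le_M_left 0 3).trans (M_norm_W 0)
  OZ := (ChoiceSit.o2_le _).trans h.X_cent_Zc
  gen := by
    have hM : M L z 0 ≤ ⨆ b : Bool, cond b (Y L z 0 3) (Y L z 0 4) := by
      refine h.M_le.trans (sup_le ?_ ?_)
      · exact le_iSup (fun b : Bool => cond b (Y L z 0 3) (Y L z 0 4)) true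
      · exact le_iSup (fun b : Bool => cond b (Y L z 0 3) (Y L z 0 4)) false
    have h1 : W L z 0 ≤ nc (M L z 0) (Zc z 1 2) := nc_le h.V_le_nc (nc_norm _ _)
    exact h1.trans (nc_mono hM le_rfl)
  NE := by
    rintro (_ | _)
    · exact h.N04_le_W
    · exact h.N03_le_W
  YN := by
    rintro (_ | _)
    · exact Y_norm_N 0 4
    · exact Y_norm_N 0 3
  YQ := by
    rintro (_ | _)
    · have := ChoiceSit.le_normalizer_o2 (Y L z 0 4)
      rw [h.o2_Y04] at this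
      exact this
    · have := ChoiceSit.le_normalizer_o2 (Y L z 0 3)
      rw [h.o2_Y03] at this
      exact this
  no := by
    rintro (_ | _) F hF hFO
    · exact h.no F hF hFO
    · exact h.no03 F hF hFO

/-- (3) -/
theorem Fr5.lever (hJ : jj (o2 (Y L z 0 3)) ≠ jj (o2 (Y L z 0 4))) :
    ∃ F : Subgroup G, F ≤ o2 (X z 1 2) ∧ ¬ F ≤ centralizer (N L z 0 4 : Set G) ∧
      ∀ e ∈ W L z 0, ∀ f ∈ F, ⁅e, f⁆ ∈ N L z 0 4 := by
  obtain ⟨g, σ, hg, hX, hO, h43, h34, y43, y34, hW⟩ := h.swap'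
  rw [h.o2_Y03, h.o2_Y04] at hJ
  obtain ⟨A, -, hA, hAm⟩ := exists_moving h.eab03 h.N03_le_O h.no03 h.eab04 h.N04_le_O h.no
    (card_jj_of_cj g hO h34) hJ
  have hAn : A ≤ normalizer (W L z 0 : Set G) :=
    hA.2.1.trans (h.O_le_Y04.trans ((Y_le_M_left 0 4).trans (M_norm_W 0)))
  have hoff := offd_of_mem h.wab h.W_le_O hA hAn h.N04_le_W hAm
  obtain ⟨i, F, hFO, hFe, hFm, hF⟩ := h.dt.lever hA.2.1 hA.1 hoff
  cases i
  · exact ⟨F, hFO, hFm, hF⟩
  · refine ⟨cj g F, ?_, ?_, ?_⟩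
    · have := cj_mono g hFO
      rwa [hO] at this
    · intro hc
      apply hFm
      change F ≤ centralizer (N L z 0 3 : Set G)
      rw [← h34, ← cj_centralizer] at hc
      have h1 := cj_mono g⁻¹ hc
      rwa [cj_inv_cj, cj_inv_cj] at h1
    · rintro e he _ ⟨f, hf, rfl⟩
      rw [← hW] at he
      obtain ⟨e, he, rfl⟩ := he
      have h1 : ⁅e, f⁆ ∈ N L z 0 3 := hF e he f hf
      rw [← h34]
      refine ⟨_, h1, ?_⟩
      exact map_commutatorElement _ _ _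

/-- `Y_04 ≤ R` if `X_12 ≤ R` and `C_L(z_0, z_4) ≤ R`. -/
theorem Fr5.Y_le_of {R : Subgroup G} (hX : X z 1 2 ≤ R) (hL : L ⊓ centralizer {z 0, z 4} ≤ R) : Y L z 0 4 ≤ R := by
  refine sup_le hL (iSup_le fun k => iSup_le fun l => iSup_le fun hh => ?_)
  obtain ⟨τ, t0, t4, t1, t2⟩ := perm_four (a := 0) (b := 4) (c := 1) (d := 2) (a' := 0) (b' := 4) (c' := k)
    (d' := l) (by decide) (by decide) (by decide) (by decide) (by decide) (by decide) (by decide) hh.2.1.1.symm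
    hh.2.1.2.symm hh.2.2.1.symm hh.2.2.2.symm hh.1
  obtain ⟨y, hy⟩ := h.ind τ
  have h1 : y ∈ R := hL (hy.mem_cl t0 t4)
  have h2 := hy.X_eq 1 2
  rw [t1, t2] at h2
  rw [← h2]
  have h4 := cj_mono y hX
  rwa [cj_eq_of_mem_normalizer (Subgroup.le_normalizer h1)] at h4

/-- an element of `C_L(z_0, z_4)` with its permutation -/
theorem Fr5.ind_cl {g : G} (hg : g ∈ L ⊓ centralizer {z 0, z 4}) : ∃ σ, Ind L z g σ ∧ σ 0 = 0 ∧ σ 4 = 4 := by
  obtain ⟨h1, h2, h3⟩ := mem_cl_iff.1 hg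
  obtain ⟨σ, hσ⟩ := h.ind_of h1
  exact ⟨σ, hσ, h.fix hσ h2, h.fix hσ h3⟩

/-- if `K ∩ Λ` is not trivial on the letters, it is transitive on `{1, 2, 3}`: `Λ ≤ K X_12` -/
theorem Fr5.gen_one {K : Subgroup G} (hYK : Y L z 0 4 ≤ normalizer (K : Set G))
    (hK : ¬ K ⊓ (L ⊓ centralizer {z 0, z 4}) ≤ X z 1 2 ⊓ centralizer (Set.range z)) : Y L z 0 4 ≤ K ⊔ X z 1 2 := by
  set Λ : Subgroup G := L ⊓ centralizer {z 0, z 4} with hΛ
  rw [SetLike.not_le_iff_exists] at hK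
  obtain ⟨k, hk, hkX⟩ := hK
  obtain ⟨hkK, hkL⟩ := mem_inf.1 hk
  obtain ⟨σ, hσ, s0, s4⟩ := h.ind_cl hkL
  -- some letter `a` is moved
  obtain ⟨a, ha⟩ : ∃ a, σ a ≠ a := by
    by_contra hcon
    push Not at hcon
    apply hkX
    have h1 : k ∈ centralizer (Set.range z) := by
      rw [mem_centralizer_iff]
      rintro _ ⟨c, rfl⟩
      exact hσ.comm_of (hcon c)
    exact mem_inf.2 ⟨h.C_le_X 1 2 h1, h1⟩
  have ha0 : a ≠ 0 := by
    rintro rfl
    exact ha s0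
  have ha4 : a ≠ 4 := by
    rintro rfl
    exact ha s4
  have hs0 : σ a ≠ 0 := fun e => ha0 (σ.injective (e.trans s0.symm))
  have hs4 : σ a ≠ 4 := fun e => ha4 (σ.injective (e.trans s4.symm))
  refine h.Y_le_of le_sup_right fun g hg => ?_
  obtain ⟨τ, hτ, t0, t4⟩ := h.ind_cl hg
  by_cases h3 : τ 3 = 3
  · refine mem_sup_right (mem_X12 h ?_ ?_ ?_)
    · exact hτ.comm_of t0
    · exact hτ.comm_of h3
    · exact hτ.comm_of t4
  have h30 : τ 3 ≠ 0 := fun e => by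
    have := τ.injective (e.trans t0.symm)
    exact absurd this (by decide)
  have h34 : τ 3 ≠ 4 := fun e => by
    have := τ.injective (e.trans t4.symm)
    exact absurd this (by decide)
  -- `ρ a = τ 3`, `ρ (σ a) = 3`
  obtain ⟨ρ, r0, r4, ra, rs⟩ := perm_four (a := 0) (b := 4) (c := a) (d := σ a) (a' := 0) (b' := 4) (c' := τ 3)
    (d' := 3) (by decide) ha0.symm ha4.symm hs0.symm hs4.symm (fun e => ha e.symm) (by decide) h30.symm h34.symm
    (by decide) (by decide) h3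
  obtain ⟨y, hy⟩ := h.ind ρ
  have hyY : y ∈ Y L z 0 4 := cl_le_Y 0 4 (hy.mem_cl r0 r4)
  have hk' : y * k * y⁻¹ ∈ K := (mem_normalizer_iff.1 (hYK hyY) k).1 hkK
  have hI := ((hy.mul hσ).mul hy.inv).mul hτ
  have h1 : y * k * y⁻¹ * g ∈ X z 1 2 := by
    refine mem_X12 h (hI.comm_of ?_) (hI.comm_of ?_) (hI.comm_of ?_)
    · have e1 : ρ⁻¹ 0 = 0 := by rw [Equiv.Perm.inv_eq_iff_eq]; exact r0.symm
      rw [Equiv.Perm.mul_apply, Equiv.Perm.mul_apply, Equiv.Perm.mul_apply, t0, e1, s0, r0]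
    · have e1 : ρ⁻¹ (τ 3) = a := by rw [Equiv.Perm.inv_eq_iff_eq]; exact ra.symm
      rw [Equiv.Perm.mul_apply, Equiv.Perm.mul_apply, Equiv.Perm.mul_apply, e1, rs]
    · have e1 : ρ⁻¹ 4 = 4 := by rw [Equiv.Perm.inv_eq_iff_eq]; exact r4.symm
      rw [Equiv.Perm.mul_apply, Equiv.Perm.mul_apply, Equiv.Perm.mul_apply, t4, e1, s4, r4]
  have h2 := mul_mem (mem_sup_left (inv_mem hk') : (y * k * y⁻¹)⁻¹ ∈ K ⊔ X z 1 2) (mem_sup_right h1)
  rwa [inv_mul_cancel_left] at h2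

/-- (4) **`Y_04 = K X_12`** -/
theorem Fr5.gen {K : Subgroup G} (hKY : K ≤ Y L z 0 4) (hYK : Y L z 0 4 ≤ normalizer (K : Set G))
    {F : Subgroup G} (hFK : F ≤ K) (hFX : F ≤ X z 1 2) (hFm : ¬ F ≤ centralizer (N L z 0 4 : Set G)) :
    Y L z 0 4 ≤ K ⊔ X z 1 2 := by
  by_cases hK : K ⊓ (L ⊓ centralizer {z 0, z 4}) ≤ X z 1 2 ⊓ centralizer (Set.range z)
  swap
  · exact h.gen_one hYK hK
  exfalso
  set Λ : Subgroup G := L ⊓ centralizer {z 0, z 4} with hΛ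
  have hΛY : Λ ≤ Y L z 0 4 := cl_le_Y 0 4
  have hTΛ : T ≤ Λ := by
    intro t ht
    exact mem_cl_iff.2 ⟨h.TL ht, mem_X_iff.1 (h.TX ht) 0 (by decide) (by decide),
      mem_X_iff.1 (h.TX ht) 4 (by decide) (by decide)⟩
  -- Frattini
  have hsK : Syl (T ⊓ K) K := SQ1.FFOne.syl_inf h.syl hKY fun y hy k hk =>
    (mem_normalizer_iff.1 (hYK hy) k).1 hk
  have hsKL : Syl (T ⊓ K) (K ⊓ Λ) :=
    ⟨le_inf inf_le_right (inf_le_left.trans hTΛ), hsK.2.1, fun Q h1 h2 h3 => hsK.2.2 Q (h1.trans inf_le_left) h2 h3⟩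
  have hΛKL : ∀ g ∈ Λ, cj g (K ⊓ Λ) = K ⊓ Λ := by
    intro g hg
    rw [cj_inf, cj_eq_of_mem_normalizer (hYK (hΛY hg)), cj_eq_of_mem_normalizer (Subgroup.le_normalizer hg)]
  have hfrat : Λ ≤ (K ⊓ Λ) ⊔ (Λ ⊓ normalizer ((T ⊓ K : Subgroup G) : Set G)) := by
    intro g hg
    have h1 : Syl (cj g (T ⊓ K)) (K ⊓ Λ) := by
      refine ⟨?_, ?_, fun Q h1 h2 h3 => ?_⟩
      · have := cj_mono g hsKL.1
        rwa [hΛKL g hg] at this
      · exact hsKL.2.1.map _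
      · have h4 := hsKL.2.2 (cj g⁻¹ Q) (by
          have := cj_mono g⁻¹ h1
          rwa [hΛKL g⁻¹ (inv_mem hg)] at this) (h2.map _) (by
          have := cj_mono g⁻¹ h3
          rwa [cj_inv_cj] at this)
        rw [← h4, cj_cj_inv]
    obtain ⟨x, hx, e⟩ := syl_conj h1 hsKL
    rw [cj_cj] at e
    have h2 : x * g ∈ Λ ⊓ normalizer ((T ⊓ K : Subgroup G) : Set G) :=
      mem_inf.2 ⟨mul_mem (mem_inf.1 hx).2 hg, mem_normalizer_iff_cj.2 e⟩
    have h3 := mul_mem (mem_sup_left (inv_mem hx) : x⁻¹ ∈ (K ⊓ Λ) ⊔ (Λ ⊓ normalizer ((T ⊓ K : Subgroup G) : Set G)))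
      (mem_sup_right h2)
    rwa [inv_mul_cancel_left] at h3
  set Lj : Subgroup G := Λ ⊓ normalizer ((T ⊓ K : Subgroup G) : Set G) with hLj
  have hYD : Y L z 0 4 ≤ X z 1 2 ⊔ Lj := by
    refine h.Y_le_of le_sup_left (hfrat.trans (sup_le ?_ le_sup_right))
    exact (hK.trans inf_le_left).trans le_sup_left
  have hDY : X z 1 2 ⊔ Lj ≤ Y L z 0 4 := sup_le h.X_le_Y04 (inf_le_left.trans hΛY)
  have hWT : N L z 0 4 ≤ T := by
    refine (ChoiceSit.le_o2 (h.W_two.to_le h.N04_le_W) ?_ (Y_norm_N 0 4)).trans (ChoiceSit.o2_le_syl h.syl)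
    exact h.N04_le_O.trans h.O_le_Y04
  have hz3 : z 3 ∈ N L z 0 4 ⊓ centralizer (X z 1 2 : Set G) := by
    refine mem_inf.2 ⟨z_mem_N (by decide) (by decide), mem_centralizer_iff.2 fun x hx => ?_⟩
    exact (mem_X_iff.1 hx 3 (by decide) (by decide)).symm
  have hmv : ∃ y ∈ X z 1 2 ⊔ Lj, ¬ F ≤ centralizer (cj y (N L z 0 4 ⊓ centralizer (X z 1 2 : Set G)) : Set G) := by
    by_contra hcon
    push Not at hcon
    apply hFm
    rw [Subgroup.le_centralizer_iff]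
    refine h.N04_le.trans (iSup_le fun y => ?_)
    have h1 := hcon y (hYD y.2)
    rw [Subgroup.le_centralizer_iff] at h1
    exact (cj_mono (y : G) (zpowers_le.2 hz3)).trans h1
  obtain ⟨y, hy, hFy⟩ := hmv
  refine EDel.QP.moves_of (B := T) (D := X z 1 2) (L := Lj) (W := N L z 0 4) (K := K)
    (Z := N L z 0 4 ⊓ centralizer (X z 1 2 : Set G)) h.sylX ?_ hWT ?_ ?_ ?_ inf_le_left ?_ ?_ ?_ ?_
    (le_inf hFK hFX) hy hFy inf_le_right
  · rw [Subgroup.le_centralizer_iff]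
    exact inf_le_right
  · intro x hx y hy
    exact (mem_centralizer_iff.1 ((eab_iff.1 h.eab04).1 hy) x hx)
  · intro x hx
    have := (eab_iff.1 h.eab04).2 x hx
    rwa [pow_two] at this
  · exact hDY.trans (Y_norm_N 0 4)
  · exact le_inf inf_le_left ((inf_le_inf_right _ h.N04_le_W).trans h.cw)
  · exact hKY.trans hYD
  · exact hDY.trans hYK
  · intro x hx
    obtain ⟨h1, h2⟩ := mem_inf.1 hx
    exact h.Y04_cent (hKY h1) (mem_centralizer_iff.1 h2 _ hz3)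

/-- (5) `M_0` normalises `N_03 N_04`: `W_0 ≤ N_03 N_04`. -/
theorem Fr5.W_le (hJ : jj (o2 (Y L z 0 3)) ≠ jj (o2 (Y L z 0 4))) : W L z 0 ≤ N L z 0 3 ⊔ N L z 0 4 := by
  obtain ⟨F, hFO, hFm, hF⟩ := h.lever hJ
  have hYE : Y L z 0 4 ≤ normalizer (W L z 0 : Set G) := (Y_le_M_left 0 4).trans (M_norm_W 0)
  -- the normal closure of `F` in `Y_04`
  let K : Subgroup G := nc (Y L z 0 4) F
  have hFY : F ≤ Y L z 0 4 := hFO.trans h.O_le_Y04
  have hKY : K ≤ Y L z 0 4 := nc_le hFY Subgroup.le_normalizer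
  have hYK : Y L z 0 4 ≤ normalizer (K : Set G) := nc_norm _ _
  have hKN : K ≤ normalizer ((N L z 0 3 ⊔ N L z 0 4 : Subgroup G) : Set G) := by
    refine iSup_le fun y => ?_
    intro x hx
    refine mem_norm_of_le ?_
    rw [cj, Subgroup.map_sup]
    have hxY : x ∈ Y L z 0 4 := hKY (cj_le_nc y.2 hx)
    refine sup_le ?_ ?_
    · rintro _ ⟨n, hn, rfl⟩
      change x * n * x⁻¹ ∈ _
      obtain ⟨f, hf, e⟩ := hx
      have e' : x = (y : G) * f * (y : G)⁻¹ := by rw [← e]; rfl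
      have hnE : n ∈ W L z 0 := h.N03_le_W hn
      have hn' : (y : G)⁻¹ * n * y ∈ W L z 0 := by
        have := (mem_normalizer_iff.1 (hYE (inv_mem y.2)) n).1 hnE
        rwa [inv_inv] at this
      have h1 := hF _ hn' f hf
      have h2 : (y : G) * ⁅(y : G)⁻¹ * n * y, f⁆ * (y : G)⁻¹ ∈ N L z 0 4 :=
        (mem_normalizer_iff.1 (Y_norm_N 0 4 y.2) _).1 h1
      have h3 : ⁅n, x⁆ = (y : G) * ⁅(y : G)⁻¹ * n * y, f⁆ * (y : G)⁻¹ := by
        rw [e']
        simp only [commutatorElement_def]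
        group
      have h4 : x * n * x⁻¹ = ⁅n, x⁆⁻¹ * n := by
        simp only [commutatorElement_def]
        group
      rw [h4]
      exact mul_mem (inv_mem (mem_sup_right (by rw [h3]; exact h2))) (mem_sup_left hn)
    · have h1 := cj_eq_of_mem_normalizer (Y_norm_N 0 4 hxY)
      exact (le_of_eq h1).trans le_sup_right
  have hXN : X z 1 2 ≤ normalizer ((N L z 0 3 ⊔ N L z 0 4 : Subgroup G) : Set G) := fun x hx =>
    norm_sup (Y_norm_N 0 3 (h.X_le_Y03 hx)) (Y_norm_N 0 4 (h.X_le_Y04 hx))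
  have h04 : Y L z 0 4 ≤ normalizer ((N L z 0 3 ⊔ N L z 0 4 : Subgroup G) : Set G) :=
    (h.gen hKY hYK (le_nc _ _) (hFO.trans (ChoiceSit.o2_le _)) hFm).trans (sup_le hKN hXN)
  have h03 : Y L z 0 3 ≤ normalizer ((N L z 0 3 ⊔ N L z 0 4 : Subgroup G) : Set G) := by
    obtain ⟨g, σ, hg, hX, hO, h43, h34, y43, y34, hW⟩ := h.swap'
    have h1 := cj_mono g h04
    have e : cj g (N L z 0 3 ⊔ N L z 0 4) = N L z 0 3 ⊔ N L z 0 4 := by
      have : cj g (N L z 0 3 ⊔ N L z 0 4) = cj g (N L z 0 3) ⊔ cj g (N L z 0 4) := Subgroup.map_sup _ _ _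
      rw [this, h34, h43, sup_comm]
    rwa [y43, cj_normalizer, e] at h1
  refine nc_le ((closure_le _).2 ?_) (h.M_le.trans (sup_le h03 h04))
  have hz : ∀ c, c ≠ 0 → z c ∈ N L z 0 3 ⊔ N L z 0 4 := by
    intro c h0
    by_cases h4 : c = 4
    · rw [h4]
      exact mem_sup_left (z_mem_N (by decide) (by decide))
    · exact mem_sup_right (z_mem_N h0 h4)
  rintro _ ⟨c, rfl⟩
  by_cases h0 : c = 0
  · rw [h0, h.prod]
    exact mul_mem (mul_mem (mul_mem (hz 1 (by decide)) (hz 2 (by decide))) (hz 3 (by decide))) (hz 4 (by decide))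
  · exact hz c h0

/-- `W_a ≤ W_b W_c` -/
theorem Fr5.W_le_W (hJ : jj (o2 (Y L z 0 3)) ≠ jj (o2 (Y L z 0 4))) {a b c : Fin 5} (hab : a ≠ b) (hac : a ≠ c)
    (hbc : b ≠ c) : W L z a ≤ W L z b ⊔ W L z c := by
  have h1 : W L z 0 ≤ W L z 3 ⊔ W L z 4 :=
    (h.W_le hJ).trans (sup_le_sup (N_le_W_right 0 3) (N_le_W_right 0 4))
  obtain ⟨τ, t0, t3, t4⟩ := perm_three (a := 0) (b := 3) (c := 4) (a' := a) (b' := b) (c' := c) (by decide)
    (by decide) (by decide) hab hac hbc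
  obtain ⟨g, hg⟩ := h.ind τ
  have h2 := cj_mono g h1
  have e : cj g (W L z 3 ⊔ W L z 4) = cj g (W L z 3) ⊔ cj g (W L z 4) := Subgroup.map_sup _ _ _
  rwa [e, hg.W_eq, hg.W_eq, hg.W_eq, t0, t3, t4] at h2

theorem Fr5.Wa_ab (a : Fin 5) : IsElementaryAbelian 2 (W L z a) := by
  obtain ⟨τ, t1, -⟩ := perm_step 1 0 a
  obtain ⟨g, hg⟩ := h.ind τ
  have h1 := isElementaryAbelian_cj g h.wab
  rwa [hg.W_eq, t1] at h1

/-- `W_a ≤ O_2(C_G(V))` -/
theorem Fr5.Wa_le (a : Fin 5) : W L z a ≤ o2 (centralizer (Set.range z)) := by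
  have hab := eab_iff.1 (h.Wa_ab a)
  refine ChoiceSit.le_o2 ?_ ?_ ?_
  · intro x
    refine ⟨1, Subtype.ext ?_⟩
    have := hab.2 x x.2
    simpa using this
  · intro x hx
    rw [mem_centralizer_iff]
    rintro _ ⟨k, rfl⟩
    exact mem_centralizer_iff.1 (hab.1 hx) _ (V_le_W a (z_mem_V k))
  · refine (le_trans ?_ (cl_le_M a)).trans (M_norm_W a)
    refine le_inf h.cv (centralizer_le ?_)
    rintro _ rfl
    exact ⟨a, rfl⟩

/-- **THEOREM M5**: `⟨L, X_12⟩` normalises a nontrivial 2-group. -/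
theorem Fr5.local : ∃ R : Subgroup G, R ≠ ⊥ ∧ IsPGroup 2 R ∧ L ≤ normalizer (R : Set G) ∧
    X z 1 2 ≤ normalizer (R : Set G) := by
  by_cases hJ : jj (o2 (Y L z 0 3)) = jj (o2 (Y L z 0 4))
  · -- all `J_ab` are equal
    have hJ' : ∀ a b c : Fin 5, a ≠ b → a ≠ c → jj (o2 (Y L z a b)) = jj (o2 (Y L z a c)) := by
      intro a b c hab hac
      by_cases hbc : b = c
      · rw [hbc]
      obtain ⟨τ, t0, t3, t4⟩ := perm_three (a := 0) (b := 3) (c := 4) (a' := a) (b' := b) (c' := c) (by decide)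
        (by decide) (by decide) hab hac hbc
      obtain ⟨g, hg⟩ := h.ind τ
      have h1 := congrArg (cj g) hJ
      rwa [← jj_cj, ← jj_cj, ← o2_cj, ← o2_cj, hg.Y_eq, hg.Y_eq, t0, t3, t4] at h1
    have hJ'' : ∀ a b : Fin 5, a ≠ b → jj (o2 (Y L z a b)) = jj (o2 (Y L z 0 3)) := by
      intro a b hab
      by_cases h0 : a = 0
      · rw [h0]
        exact hJ' 0 b 3 (fun e => hab (h0.trans e)) (by decide)
      · rw [hJ' a b 0 hab h0, Y_comm]
        exact hJ' 0 a 3 (fun e => h0 e.symm) (by decide)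
    refine ⟨jj (o2 (Y L z 0 3)), ?_, (ChoiceSit.isPGroup_o2 _).to_le (ChoiceBase.jj_le _), ?_, ?_⟩
    · refine jj_ne_bot (ChoiceSit.isPGroup_o2 _) ?_
      intro e
      have h1 : N L z 0 3 ≤ o2 (Y L z 0 3) := by
        rw [h.o2_Y03]
        exact le_inf h.N03_le_O (eab_iff.1 h.eab03).1
      rw [e] at h1
      have h2 := h1 (z_mem_N (c := 4) (by decide) (by decide))
      exact h.z_ne 4 (mem_bot.1 h2)
    · intro g hg
      obtain ⟨σ, hσ⟩ := h.ind_of hg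
      rw [mem_normalizer_iff_cj, ← jj_cj, ← o2_cj, hσ.Y_eq]
      exact hJ'' _ _ fun e => absurd (σ.injective e) (by decide)
    · exact (h.X_le_Y03.trans (ChoiceSit.le_normalizer_o2 _)).trans (jj_norm _)
  · refine ⟨⨆ a, W L z a, ?_, ?_, ?_, ?_⟩
    · intro e
      have h1 : z 0 ∈ ⨆ a, W L z a := (le_iSup (W L z) 0) (V_le_W 0 (z_mem_V 0))
      rw [e] at h1
      exact h.z_ne 0 (mem_bot.1 h1)
    · exact (ChoiceSit.isPGroup_o2 (centralizer (Set.range z))).to_le (iSup_le h.Wa_le)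
    · intro g hg
      obtain ⟨σ, hσ⟩ := h.ind_of hg
      refine mem_norm_of_le ?_
      rw [cj, Subgroup.map_iSup]
      refine iSup_le fun a => ?_
      have := hσ.W_eq a
      rw [cj] at this
      rw [this]
      exact le_iSup (W L z) (σ a)
    · have e : ⨆ a, W L z a = W L z 0 ⊔ W L z 3 ⊔ W L z 4 := by
        apply le_antisymm
        · refine iSup_le fun a => ?_
          by_cases h3 : a = 3
          · rw [h3]
            exact le_sup_right.trans le_sup_left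
          by_cases h4 : a = 4
          · rw [h4]
            exact le_sup_right
          refine (h.W_le_W hJ h3 h4 (by decide)).trans (sup_le ?_ le_sup_right)
          exact le_sup_right.trans le_sup_left
        · exact sup_le (sup_le (le_iSup (W L z) 0) (le_iSup (W L z) 3)) (le_iSup (W L z) 4)
      rw [e]
      intro x hx
      exact norm_sup (norm_sup (M_norm_W 0 (X_le_Mij (by decide) (by decide) (by decide) hx))
        (M_norm_W 3 (X_le_Mij (by decide) (by decide) (by decide) hx)))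
        (M_norm_W 4 (X_le_Mij (by decide) (by decide) (by decide) hx))

end main

end Cfsg.Agent.Omega.NO3S.MFive

end

end

-- merged: Cfsg.Agent.Mrg.Omega.NO3S.MFive.TSix
section

section


/-!
# THEOREM M5: (T6) `Ω₁(Z(O₂(P))) = V_P` at every stage `StgG`

* `zc_o2_stg` : `HypN S P` and `StgG S P K B ZJ` (stage `-1`, every level, the case (L)).
-/

set_option autoImplicit false

namespace Cfsg.Agent.Omega.NO3S.MFive

open Subgroup Cfsg Cfsg.Agent.ZN Cfsg.Agent.ZN.ChoiceBase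
open Cfsg.Agent.Omega.MinPar (IsParS)
open Cfsg.Agent.Omega.NO3S (HypF HypN Hyp)
open Cfsg.Agent.Omega.NO3S.Level (lev nxt Lev BO)
open Cfsg.Agent.Omega.Node.MulG (Top StgG)

universe u

variable {G : Type u} [Group G] [Finite G] {S : Sylow 2 G} {P K B ZJ : Subgroup G}

/-- `nxt S K₀ ≰ O₂(P)` gives a best offender. -/
theorem exists_BO_stg (hG : IsCharacteristicTwoType G) (hP : IsParS (S : Subgroup G) P) {K₀ : Subgroup G}
    (h : Top S P K₀) : ∃ A ∈ BO (S : Subgroup G) K₀, ¬ A ≤ o2 P := by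
  by_contra hcon
  push Not at hcon
  apply h.nxt
  refine sup_le ?_ (sSup_le hcon)
  have h3 : zl (S : Subgroup G) P ≤ zc K₀ :=
    (hP.isLoc.zl_le S hG).trans (h.lev.zc_o2_le h.le (hP.isLoc.o2_le S))
  rw [← IsParS.inf_centralizer S hG hP]
  exact inf_le_inf_left _ (centralizer_le h3)

/-- **(T6) at every stage**: `Ω₁(Z(O₂(P))) = V_P`. -/
theorem zc_o2_stg (h : HypN S P) (hs : StgG S P K B ZJ) : Cfsg.Agent.ZN.zc (o2 P) = zl (S : Subgroup G) P := by
  have hG := h.ctx.char2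
  have hP := h.star
  cases hs with
  | neg hj =>
    have hQS : o2 P ≤ (S : Subgroup G) := NO3S.OneLine.o2_le S hP.toIsPar
    have hJ : ¬ jj (S : Subgroup G) ≤ centralizer (zl (S : Subgroup G) P : Set G) := fun hc => hj (by
      rw [← IsParS.inf_centralizer S hG hP]
      exact le_inf (ChoiceBase.jj_le _) hc)
    obtain ⟨A, hA, hAQ⟩ := NO3S.OneLine.exists_AA hG hP hJ
    have hX : IsElementaryAbelian 2 (Cfsg.Agent.ZN.zc (o2 P)) := NO3S.OneLine.zc_elem _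
    have hXS : Cfsg.Agent.ZN.zc (o2 P) ≤ (S : Subgroup G) := (Cfsg.Agent.MinSimple.VModule.zc_le _).trans hQS
    have hb := NO3S.Level.bfam_AA (S := (S : Subgroup G)) (L := ⊤) hX hXS
    have h1 := NO3S.OneLine.exa_bo FF.Glob.ffthmM hG hP hX hXS
      ((Cfsg.Agent.MinSimple.VModule.le_normalizer_o2 P).trans (NO3S.Level.normalizer_le_zc _)) le_rfl
      h.toHyp.inf_eq_bot ⟨A, ⟨hb.le A hA, hb.elem A hA, hb.best A hA⟩, hAQ⟩
    exact h1.1.zc_o2 h1.2
  | lev K₀ hT =>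
    exact (NO3S.OneLine.lev_eq FF.Glob.ffthmM hG hP hT.lev hT.le h.toHyp.inf_eq_bot
      (exists_BO_stg hG hP hT)).1

end Cfsg.Agent.Omega.NO3S.MFive

end

section


/-!
# THEOREM M5: the instance for `Sym.Light.FiveL`, every stage

`z 0 = p 4`, `z 1 = p 0`, `z 2 = p 1`, `z 3 = p 2`, `z 4 = p 3`; `L = N_G(V_P)`, `Q = O₂(P)`, `T = S ∩ X_12`.
The only input on the stage is (T6): `Ω₁(Z(O₂(P))) = V_P` (`zc_o2_stg`).

* `pre`, `fr5` : the frame of THEOREM M5;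
* `local_five` : `⟨N_G(V), C_G(p 2, p 3, p 4)⟩` is 2-local.
-/

set_option autoImplicit false
set_option linter.unusedSectionVars false

namespace Cfsg.Agent.Omega.NO3S.MFive.Inst

open Subgroup Cfsg Cfsg.Agent.ZN Cfsg.Agent.ZN.ChoiceBase
open Cfsg.Agent.ZN.ChoiceSit (Syl exists_syl syl_conj syl_not_dvd)
open Cfsg.Agent.Omega.NTwo Cfsg.Agent.Omega.NO3S.Sym.Exit Cfsg.Agent.Omega.NO3S.Sym.Light
open Cfsg.Agent.Omega.EK3.Rank (NoOn)
open Cfsg.Agent.Omega.MinPar (IsParS NonLoc)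
open Cfsg.Agent.Omega.NO3S (Hyp HypN)
open Cfsg.Agent.Omega.Node.MulG (StgG)

universe u

/-! ### `S` induces `D8` -/

theorem mem_D8_of : ∀ σ : Equiv.Perm (Fin 5), σ 4 = 4 →
    (((σ 0 = 0 ∧ σ 1 = 1) ∨ (σ 0 = 1 ∧ σ 1 = 0)) ∨ ((σ 0 = 2 ∧ σ 1 = 3) ∨ (σ 0 = 3 ∧ σ 1 = 2))) → σ ∈ D8 := by
  decide +kernel

theorem swap01_mem : Equiv.swap (0 : Fin 5) 1 ∈ D8 := by decide +kernel

theorem swap23_mem : Equiv.swap (2 : Fin 5) 3 ∈ D8 := by decide +kernel

variable {G : Type u} [Group G]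

/-- the labels -/
def rho : Equiv.Perm (Fin 5) := Equiv.subRight 1

/-- `z 0 = p 4`, `z 1 = p 0`, `z 2 = p 1`, `z 3 = p 2`, `z 4 = p 3` -/
def zv (p : Fin 5 → G) : Fin 5 → G := p ∘ rho

theorem zv0 (p : Fin 5 → G) : zv p 0 = p 4 := rfl
theorem zv1 (p : Fin 5 → G) : zv p 1 = p 0 := rfl
theorem zv2 (p : Fin 5 → G) : zv p 2 = p 1 := rfl
theorem zv3 (p : Fin 5 → G) : zv p 3 = p 2 := rfl
theorem zv4 (p : Fin 5 → G) : zv p 4 = p 3 := rfl

theorem range_zv (p : Fin 5 → G) : Set.range (zv p) = Set.range p := rho.surjective.range_comp p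

theorem mem_X12 {p : Fin 5 → G} {x : G} :
    x ∈ X (zv p) 1 2 ↔ x * p 4 = p 4 * x ∧ x * p 2 = p 2 * x ∧ x * p 3 = p 3 * x := by
  rw [mem_X]
  constructor
  · intro h
    exact ⟨h 0 (by decide) (by decide), h 3 (by decide) (by decide), h 4 (by decide) (by decide)⟩
  · rintro ⟨h0, h3, h4⟩ k h1 h2
    have key : ∀ k : Fin 5, k ≠ 1 → k ≠ 2 → k = 0 ∨ k = 3 ∨ k = 4 := by decide
    rcases key k h1 h2 with rfl | rfl | rfl
    · exact h0
    · exact h3
    · exact h4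

theorem Y_le (L : Subgroup G) (z : Fin 5 → G) (a b : Fin 5) : Y L z a b ≤ centralizer {z a, z b} := by
  refine sup_le inf_le_right (iSup_le fun k => iSup_le fun l => iSup_le ?_)
  rintro ⟨-, ⟨hk1, hk2⟩, hl1, hl2⟩ x hx
  refine mem_centralizer_iff.2 ?_
  rintro y (rfl | rfl)
  · exact (mem_X.1 hx a hk1.symm hl1.symm).symm
  · exact (mem_X.1 hx b hk2.symm hl2.symm).symm

theorem X_le_Y {L : Subgroup G} {z : Fin 5 → G} {a b k l : Fin 5} (hkl : k ≠ l) (h1 : k ≠ a) (h2 : k ≠ b)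
    (h3 : l ≠ a) (h4 : l ≠ b) : X z k l ≤ Y L z a b := by
  refine le_trans ?_ (le_sup_right : _ ≤ Y L z a b)
  refine le_trans ?_ (le_iSup _ k)
  refine le_trans ?_ (le_iSup _ l)
  exact le_iSup (fun _ : k ≠ l ∧ (k ≠ a ∧ k ≠ b) ∧ l ≠ a ∧ l ≠ b => X z k l) ⟨hkl, ⟨h1, h2⟩, h3, h4⟩

theorem Y_le_M (L : Subgroup G) (z : Fin 5 → G) (a b : Fin 5) : Y L z a b ≤ M L z a := by
  refine sup_le ?_ (iSup_le fun k => iSup_le fun l => iSup_le ?_)
  · exact le_trans (inf_le_inf_left _ (centralizer_le (Set.singleton_subset_iff.2 (Or.inl rfl)))) le_sup_left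
  · rintro ⟨hkl, ⟨hk1, -⟩, hl1, -⟩
    exact X_le_M hkl hk1 hl1

theorem N_le_W (L : Subgroup G) (z : Fin 5 → G) (a b : Fin 5) : N L z a b ≤ W L z a := by
  refine iSup_le fun y => ?_
  refine le_trans (cj_mono _ ?_) (le_iSup (fun m : M L z a => cj (m : G) (V z)) ⟨y, Y_le_M L z a b y.2⟩)
  refine closure_mono ?_
  rintro _ ⟨c, -, -, rfl⟩
  exact ⟨c, rfl⟩

variable [Finite G] {S : Sylow 2 G} {P : Subgroup G} {p : Fin 5 → G}

/-- a Sylow 2-subgroup in standard position induces `D8` -/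
theorem std_all (h : Std (S : Subgroup G) P p) {d : Equiv.Perm (Fin 5)} (hd : d ∈ D8) :
    ∃ x ∈ (S : Subgroup G), ∀ i, x * p i * x⁻¹ = p (d i) := by
  have hp : Fact (Nat.Prime 2) := ⟨Nat.prime_two⟩
  obtain ⟨φ, hφs, hφ⟩ := h.exists_hom
  obtain ⟨D, hD⟩ := exists_D8
  obtain ⟨R, hR⟩ : ∃ R : Sylow 2 (Equiv.Perm (Fin 5)), R = (S.subtype h.le).mapSurjective hφs := ⟨_, rfl⟩
  have h2 : (R : Subgroup _) = ((S : Subgroup G).subgroupOf P).map φ := by
    rw [hR, Sylow.coe_mapSurjective]; rfl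
  have h3 : (R : Subgroup _) ≤ D8 := by
    rw [h2]
    rintro _ ⟨x, hx, rfl⟩
    have hxS : (x : G) ∈ (S : Subgroup G) := mem_subgroupOf.1 hx
    have h4 := h.fix x hxS
    rw [hφ] at h4
    refine mem_D8_of _ (h.inj h4) ?_
    rcases h.part x hxS with h5 | h5
    · rw [cm, hφ, hφ] at h5
      exact Or.inl (h.pair_inj (fun e => absurd ((φ x).injective e) (by decide)) (by decide) h5)
    · rw [cm, hφ, hφ] at h5
      exact Or.inr (h.pair_inj (fun e => absurd ((φ x).injective e) (by decide)) (by decide) h5)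
  have h4 : (D8 : Subgroup _) = R := R.is_maximal' (hD ▸ D.isPGroup') h3
  have h5 : d ∈ ((S : Subgroup G).subgroupOf P).map φ := by
    rw [← h2, ← h4]
    exact hd
  obtain ⟨x, hx, rfl⟩ := h5
  exact ⟨x, mem_subgroupOf.1 hx, fun i => hφ x i⟩

/-- `T = S ∩ X_12` -/
def TT (S : Subgroup G) (p : Fin 5 → G) : Subgroup G := S ⊓ X (zv p) 1 2

section inst

variable (h : FiveL S P p)
include h

theorem not_light {g : G} {i j k : Fin 5} (hjk : j ≠ k) : g * p i * g⁻¹ ≠ p j * p k := by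
  intro e
  obtain ⟨a, -, ha⟩ := h.heavy i
  obtain ⟨b, -, hb⟩ := h.lights hjk
  refine h.not_conj (b⁻¹ * g * a) ?_
  calc b⁻¹ * g * a * p 4 * (b⁻¹ * g * a)⁻¹ = b⁻¹ * (g * (a * p 4 * a⁻¹) * g⁻¹) * b := by group
    _ = b⁻¹ * (b * nn p * b⁻¹) * b := by rw [ha, e, hb]
    _ = nn p := by group

/-- a conjugate of `p i` in `V` is some `p j` -/
theorem heavy_of {g : G} {i : Fin 5} (hg : g * p i * g⁻¹ ∈ zl (S : Subgroup G) P) : ∃ j, g * p i * g⁻¹ = p j := by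
  rcases h.elts hg with h2 | ⟨j, h2⟩ | ⟨j, k, hjk, h2⟩
  · exfalso
    apply h.std.ne i
    calc p i = g⁻¹ * (g * p i * g⁻¹) * g := by group
      _ = 1 := by rw [h2]; group
  · exact ⟨j, h2⟩
  · exact absurd h2 (not_light h hjk)

theorem act_norm {g : G} (hg : g ∈ normalizer (zl (S : Subgroup G) P : Set G)) :
    ∃ σ : Equiv.Perm (Fin 5), ∀ a, g * zv p a * g⁻¹ = zv p (σ a) := by
  choose f hf using fun a => heavy_of h (g := g) (i := rho a) ((mem_normalizer_iff.1 hg _).1 (h.p_mem (rho a)))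
  have hz : ∀ i, zv p (rho⁻¹ i) = p i := fun i => congrArg p (rho.apply_symm_apply i)
  have hinj : Function.Injective fun a => rho⁻¹ (f a) := by
    intro a b hab
    have h1 : f a = f b := (rho⁻¹).injective hab
    have h2 : g * p (rho a) * g⁻¹ = g * p (rho b) * g⁻¹ := by rw [hf, hf, h1]
    exact rho.injective (h.std.inj (conj_inj h2))
  refine ⟨Equiv.ofBijective _ (Finite.injective_iff_bijective.1 hinj), fun a => ?_⟩
  rw [Equiv.ofBijective_apply, hz]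
  exact hf a

theorem V_zv : V (zv p) = zl (S : Subgroup G) P := by
  rw [V, range_zv, h.gen]

theorem zfv : Fv P (zv p) := h.std.toFv.relabel rho

theorem VQ : zl (S : Subgroup G) P ≤ o2 P := h.zl_le.trans (Cfsg.Agent.MinSimple.VModule.zc_le _)

theorem QS : o2 P ≤ (S : Subgroup G) := h.star.isLoc.o2_le S

theorem VcQ {x v : G} (hx : x ∈ o2 P) (hv : v ∈ zl (S : Subgroup G) P) : x * v = v * x :=
  (ChoiceBase.mem_zc.1 (h.zl_le hv)).2.2 x hx

theorem Q_le_T : o2 P ≤ TT (S : Subgroup G) p := fun _ hq => ⟨QS h hq, mem_X12.2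
  ⟨VcQ h hq (h.p_mem 4), VcQ h hq (h.p_mem 2), VcQ h hq (h.p_mem 3)⟩⟩

theorem cS {x : G} (hx : x ∈ (S : Subgroup G)) (hc : ∀ v ∈ zl (S : Subgroup G) P, x * v = v * x) : x ∈ o2 P := by
  rw [← IsParS.inf_centralizer S h.ctx.char2 h.star]
  exact ⟨hx, mem_centralizer_iff.2 fun v hv => (hc v hv).symm⟩

theorem exists_t : ∃ t ∈ TT (S : Subgroup G) p, t * p 0 * t⁻¹ = p 1 := by
  obtain ⟨t, ht, h1⟩ := std_all h.std swap01_mem
  refine ⟨t, ⟨ht, mem_X12.2 ⟨comm_iff.1 ?_, comm_iff.1 ?_, comm_iff.1 ?_⟩⟩, ?_⟩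
  all_goals
    rw [h1]
    rfl

/-- `C_S(n)` acts on `{p 2, p 3}` -/
theorem T_two' {x : G} (hx : x ∈ Std.T (S : Subgroup G) p) :
    (x * p 2 * x⁻¹ = p 2 ∧ x * p 3 * x⁻¹ = p 3) ∨ (x * p 2 * x⁻¹ = p 3 ∧ x * p 3 * x⁻¹ = p 2) := by
  obtain ⟨σ, hσ⟩ := h.std.perm x (h.std.le (Std.T_le hx))
  have h1 := h.std.T_a hx
  rw [aa, cm, hσ, hσ] at h1
  rcases h.std.pair_inj (fun e => absurd (σ.injective e) (by decide)) (by decide) h1 with ⟨e, e'⟩ | ⟨e, e'⟩
  · left; rw [hσ, hσ, e, e']; exact ⟨rfl, rfl⟩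
  · right; rw [hσ, hσ, e, e']; exact ⟨rfl, rfl⟩

theorem n_eq : nn p = p 2 * p 3 * p 4 := by
  have h1 := h.std.a_eq
  change p 2 * p 3 = nn p * p 4 at h1
  rw [h1, mul_assoc, h.std.sq, mul_one]

theorem mem_TT {x : G} (hx : x ∈ Std.T (S : Subgroup G) p) : x ∈ TT (S : Subgroup G) p ↔ x * p 2 * x⁻¹ = p 2 := by
  constructor
  · intro h1
    exact comm_iff.2 (mem_X12.1 h1.2).2.1
  · intro h1
    refine ⟨Std.T_le hx, mem_X12.2 ⟨comm_iff.1 (h.std.fix x (Std.T_le hx)), comm_iff.1 h1, comm_iff.1 ?_⟩⟩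
    rcases T_two' h hx with ⟨-, h2⟩ | ⟨h2, -⟩
    · exact h2
    · exact absurd (h.std.inj (h1.symm.trans h2)) (by decide)

theorem TT_le : TT (S : Subgroup G) p ≤ Std.T (S : Subgroup G) p := by
  rintro x ⟨hx, hx'⟩
  obtain ⟨h4, h2, h3⟩ := mem_X12.1 hx'
  refine Std.mem_T.2 ⟨hx, ?_⟩
  rw [n_eq h, cm, cm, comm_iff.2 h2, comm_iff.2 h3, comm_iff.2 h4]

theorem card_T : Nat.card (Std.T (S : Subgroup G) p) = 2 * Nat.card (TT (S : Subgroup G) p) := by
  have e : Nat.card ((TT (S : Subgroup G) p).subgroupOf (Std.T (S : Subgroup G) p)) = Nat.card (TT (S : Subgroup G) p) :=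
    Nat.card_congr (subgroupOfEquivOfLe (TT_le h)).toEquiv
  have h1 := card_mul_index ((TT (S : Subgroup G) p).subgroupOf (Std.T (S : Subgroup G) p))
  obtain ⟨s, hsS, hs⟩ := std_all h.std swap23_mem
  have hs2 : s * p 2 * s⁻¹ = p 3 := hs 2
  have hs3 : s * p 3 * s⁻¹ = p 2 := hs 3
  have hsT : s ∈ Std.T (S : Subgroup G) p := by
    refine Std.mem_T.2 ⟨hsS, ?_⟩
    rw [cm, hs, hs]
    rfl
  have hs' : s⁻¹ * p 2 * s⁻¹⁻¹ = p 3 := by
    rw [← hs3]; group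
  have h3 : ((TT (S : Subgroup G) p).subgroupOf (Std.T (S : Subgroup G) p)).index = 2 := by
    rw [index_eq_two_iff]
    refine ⟨⟨s, hsT⟩⁻¹, fun b => ?_⟩
    rw [mem_subgroupOf, mem_subgroupOf]
    change Xor ((b : G) * s⁻¹ ∈ TT (S : Subgroup G) p) ((b : G) ∈ TT (S : Subgroup G) p)
    rw [mem_TT h b.2, mem_TT h (mul_mem b.2 (inv_mem hsT)), ← cc, hs']
    rcases T_two' h b.2 with ⟨e1, e2⟩ | ⟨e1, e2⟩
    · refine Or.inr ⟨e1, fun e3 => ?_⟩
      exact absurd (h.std.inj (e3.symm.trans e2)) (by decide)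
    · refine Or.inl ⟨e2, fun e3 => ?_⟩
      exact absurd (h.std.inj (e3.symm.trans e1)) (by decide)
  rw [e, h3] at h1
  omega

theorem syl_n : Syl (Std.T (S : Subgroup G) p) (centralizer ({nn p} : Set G)) := by
  have hf : Fact (Nat.Prime 2) := ⟨Nat.prime_two⟩
  have hT : IsPGroup 2 (Std.T (S : Subgroup G) p) := S.isPGroup'.to_le Std.T_le
  refine ⟨inf_le_right, hT, fun Q hQX hQ hTQ => le_antisymm ?_ hTQ⟩
  obtain ⟨k, hk⟩ := IsPGroup.iff_card.1 hQ
  have h1 : (Std.T (S : Subgroup G) p).relIndex Q ∣ 2 ^ k := hk ▸ relIndex_dvd_card _ Q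
  obtain ⟨j, _, hj⟩ := (Nat.dvd_prime_pow Nat.prime_two).1 h1
  have h2 : (Std.T (S : Subgroup G) p).relIndex Q ∣ (Std.T (S : Subgroup G) p).relIndex (centralizer ({nn p} : Set G)) :=
    Dvd.intro _ (relIndex_mul_relIndex _ Q _ hTQ hQX)
  have h3 : j = 0 := by
    by_contra hne
    exact h.not_dvd ((dvd_pow_self 2 hne).trans (hj ▸ h2))
  rw [h3, pow_zero] at hj
  exact relIndex_eq_one.1 hj

variable (hz : Cfsg.Agent.ZN.zc (o2 P) = zl (S : Subgroup G) P)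
include hz

theorem zc_T_le : Cfsg.Agent.ZN.zc (TT (S : Subgroup G) p) ≤ zl (S : Subgroup G) P := by
  intro x hx
  obtain ⟨h1, h2, h3⟩ := ChoiceBase.mem_zc.1 hx
  rw [← hz]
  refine ChoiceBase.mem_zc.2 ⟨cS h h1.1 fun v hv => (h3 v (Q_le_T h (VQ h hv))).symm, h2, fun y hy => h3 y (Q_le_T h hy)⟩

/-- **`T = S ∩ X_12` is a Sylow 2-subgroup of `Y_04`.** -/
theorem syl_Y : Syl (TT (S : Subgroup G) p) (Y (normalizer (zl (S : Subgroup G) P : Set G)) (zv p) 0 4) := by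
  have hTX : TT (S : Subgroup G) p ≤ X (zv p) 1 2 := inf_le_right
  refine EDel.SylB.syl_of_nc (hTX.trans (X_le_Y (by decide) (by decide) (by decide) (by decide) (by decide)))
    (S.isPGroup'.to_le inf_le_left) fun R hR hR2 hTR => ?_
  obtain ⟨t, htT, ht⟩ := exists_t h
  have hpT : ∀ k, k = 2 ∨ k = 3 → p k ∈ TT (S : Subgroup G) p := fun k _ =>
    ⟨h.std.mem k, mem_X12.2 ⟨h.std.comm _ _, h.std.comm _ _, h.std.comm _ _⟩⟩
  have hR4 : ∀ g ∈ R, g * p 4 * g⁻¹ = p 4 := fun g hg =>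
    comm_iff.2 (mem_centralizer_iff.1 (Y_le _ _ _ _ (hR hg).1) (p 4) (Or.inl rfl)).symm
  have hR3 : ∀ g ∈ R, g * p 3 * g⁻¹ = p 3 := fun g hg =>
    comm_iff.2 (mem_centralizer_iff.1 (Y_le _ _ _ _ (hR hg).1) (p 3) (Or.inr rfl)).symm
  -- `R` centralises `p 2`
  have hR2' : ∀ g ∈ R, g * p 2 * g⁻¹ = p 2 := by
    intro g hg
    have h1 : p 2 ∈ Cfsg.Agent.ZN.zc (TT (S : Subgroup G) p) :=
      ChoiceBase.mem_zc.2 ⟨hpT 2 (Or.inl rfl), by rw [pow_two, h.std.sq], fun y hy => (mem_X12.1 (hTX hy)).2.1⟩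
    have h2 : g * p 2 * g⁻¹ ∈ Cfsg.Agent.ZN.zc (TT (S : Subgroup G) p) :=
      (mem_normalizer_iff.1 (NO3S.Level.normalizer_le_zc _ (hR hg).2) _).1 h1
    obtain ⟨j, hj⟩ := heavy_of h (zc_T_le h hz h2)
    have h3 : t * p j * t⁻¹ = p j := by
      rw [comm_iff, ← hj]
      exact (ChoiceBase.mem_zc.1 h2).2.2 t htT
    have h4 : j ≠ 0 := by
      rintro rfl
      exact absurd (h.std.inj (h3.symm.trans ht)) (by decide)
    have h5 : j ≠ 1 := by
      rintro rfl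
      rw [← ht] at h3
      have h6 := conj_inj h3
      exact absurd (h.std.inj (ht.symm.trans h6)) (by decide)
    have h6 : j ≠ 3 := by
      rintro rfl
      have h7 := conj_inj (hj.trans (hR3 g hg).symm)
      exact absurd (h.std.inj h7) (by decide)
    have h7 : j ≠ 4 := by
      rintro rfl
      have h7 := conj_inj (hj.trans (hR4 g hg).symm)
      exact absurd (h.std.inj h7) (by decide)
    have key : ∀ j : Fin 5, j ≠ 0 → j ≠ 1 → j ≠ 3 → j ≠ 4 → j = 2 := by decide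
    rw [hj, key j h4 h5 h6 h7]
  have hRn : R ≤ centralizer ({nn p} : Set G) := fun g hg => mem_cent.2 (by
    rw [n_eq h, cm, cm, hR2' g hg, hR3 g hg, hR4 g hg])
  by_contra hne
  have hcard : Nat.card (Std.T (S : Subgroup G) p) ≤ Nat.card R := by
    rw [card_T h]
    obtain ⟨k, hk⟩ := card_dvd_of_le hTR
    have hpos : 0 < Nat.card R := Nat.card_pos
    have hk2 : 2 ≤ k := by
      by_contra hk2
      have hk3 : k = 0 ∨ k = 1 := by omega
      rcases hk3 with rfl | rfl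
      · rw [hk, mul_zero] at hpos
        exact absurd hpos (lt_irrefl _)
      · rw [mul_one] at hk
        exact hne (eq_of_le_of_card_ge hTR hk.le).symm
    rw [hk, mul_comm]
    exact Nat.mul_le_mul_left _ hk2
  obtain ⟨R', hR', hRR'⟩ := exists_syl hR2 hRn
  obtain ⟨d, hd, hdR⟩ := syl_conj (syl_n h) hR'
  have hRe : R = R' := by
    refine eq_of_le_of_card_ge hRR' ?_
    rw [← hdR, card_cj]
    exact hcard
  have key : ∀ k, k = 2 ∨ k = 3 → d⁻¹ * p k * d⁻¹⁻¹ = p 4 := by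
    intro k hk
    have hkR : ∀ y ∈ R, y * p k = p k * y := by
      rcases hk with rfl | rfl
      · exact fun y hy => comm_iff.1 (hR2' y hy)
      · exact fun y hy => comm_iff.1 (hR3 y hy)
    have h1 : p k ∈ R := hTR (hpT k hk)
    have hmem : ∀ y : G, y ∈ Std.T (S : Subgroup G) p ↔ d * y * d⁻¹ ∈ R := by
      intro y
      rw [hRe, ← hdR, mem_cj]
      have e : d⁻¹ * (d * y * d⁻¹) * d = y := by group
      rw [e]
    have h2 : d⁻¹ * p k * d⁻¹⁻¹ ∈ Cfsg.Agent.ZN.zc (Std.T (S : Subgroup G) p) := by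
      refine ChoiceBase.mem_zc.2 ⟨?_, ?_, fun y hy => ?_⟩
      · rw [hmem]
        have e : d * (d⁻¹ * p k * d⁻¹⁻¹) * d⁻¹ = p k := by group
        rwa [e]
      · have e : (d⁻¹ * p k * d⁻¹⁻¹) ^ 2 = d⁻¹ * (p k * p k) * d := by rw [pow_two]; group
        rw [e, h.std.sq]; group
      · have h3 := hkR _ ((hmem y).1 hy)
        calc y * (d⁻¹ * p k * d⁻¹⁻¹) = d⁻¹ * ((d * y * d⁻¹) * p k) * d := by group
          _ = d⁻¹ * (p k * (d * y * d⁻¹)) * d := by rw [h3]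
          _ = d⁻¹ * p k * d⁻¹⁻¹ * y := by group
    rcases h.std.mem_zcT.1 h2 with h3 | h3 | h3 | h3
    · exfalso
      apply h.std.ne k
      calc p k = d * (d⁻¹ * p k * d⁻¹⁻¹) * d⁻¹ := by group
        _ = 1 := by rw [h3]; group
    · exact absurd h3 (not_light h (by decide))
    · exact absurd h3 (not_light h (by decide))
    · exact h3
  have h1 := conj_inj ((key 2 (Or.inl rfl)).trans (key 3 (Or.inr rfl)).symm)
  exact absurd (h.std.inj h1) (by decide)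

end inst

section frame

variable (h : FiveL S P p)
include h

theorem syl_S : Syl (S : Subgroup G) (centralizer ({p 4} : Set G)) :=
  ⟨fun x hx => mem_cent.2 (h.std.fix x hx), S.isPGroup', fun _ _ hR hSR => S.is_maximal' hR hSR⟩

theorem SL : (S : Subgroup G) ≤ normalizer (zl (S : Subgroup G) P : Set G) := h.std.le.trans (le_normalizer_zl _ _)

theorem full_L (σ : Equiv.Perm (Fin 5)) : ∃ g ∈ normalizer (zl (S : Subgroup G) P : Set G),
    ∀ a, g * zv p a * g⁻¹ = zv p (σ a) := by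
  obtain ⟨g, hg, h1⟩ := (zfv h).full σ
  exact ⟨g, le_normalizer_zl _ _ hg, h1⟩

theorem prod_z : zv p 0 = zv p 1 * zv p 2 * zv p 3 * zv p 4 := by
  have h1 := h.std.prod
  change p 4 = p 0 * p 1 * p 2 * p 3
  rw [← h1, mul_assoc (p 0 * p 1)]

theorem wf_of (hX : ¬ X (zv p) 1 2 ≤ normalizer (zl (S : Subgroup G) P : Set G)) :
    WF (normalizer (zl (S : Subgroup G) P : Set G)) (M (normalizer (zl (S : Subgroup G) P : Set G)) (zv p) 0)
      (X (zv p) 1 2) (S : Subgroup G) (zv p) where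
  sq a := h.std.sq _
  comm a b := h.std.comm _ _
  prod := prod_z h
  act g hg := act_norm h hg
  full := full_L h
  inj := (zfv h).inj
  NL := by
    have h1 := V_zv h
    rw [V] at h1
    rw [h1]
  LM := le_sup_left
  MC := M_le _ _ 0
  XM := X_le_M (by decide) (by decide) (by decide)
  hX := fun x hx k h1 h2 => mem_X.1 hx k h1 h2
  nX := hX
  syl := syl_S h
  SL := SL h
  c2 := Cfsg.Agent.MinSimple.Basic.char2_centralizer h.ctx.char2 (by rw [pow_two]; exact h.std.sq 4) (h.std.ne 4)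

/-- `O₂(P)` is a Sylow 2-subgroup of `C_G(V)`. -/
theorem sylQ : Syl (o2 P) (centralizer (V (zv p) : Set G)) := by
  rw [V_zv h]
  refine ⟨fun q hq => mem_centralizer_iff.2 fun v hv => (VcQ h hq hv).symm, ChoiceSit.isPGroup_o2 P,
    fun R hR hR2 hQR => ?_⟩
  have hRM : R ≤ normalizer (zl (S : Subgroup G) P : Set G) := hR.trans (centralizer_le_normalizer _)
  have hS : Syl (S : Subgroup G) (normalizer (zl (S : Subgroup G) P : Set G)) :=
    ⟨SL h, S.isPGroup', fun _ _ hT hST => S.is_maximal' hT hST⟩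
  obtain ⟨T, hT, hRT⟩ := exists_syl hR2 hRM
  obtain ⟨k, hk, hkT⟩ := syl_conj hT hS
  have hkS : cj k R ≤ (S : Subgroup G) := (cj_mono k hRT).trans hkT.le
  have h1 : cj k R ≤ o2 P := by
    intro x hx
    refine cS h (hkS hx) fun v hv => ?_
    have h2 : cj k R ≤ centralizer (zl (S : Subgroup G) P : Set G) := by
      have h3 := cj_mono k hR
      rwa [cj_centralizer, cj_eq_of_mem_normalizer hk] at h3
    exact (mem_centralizer_iff.1 (h2 hx) v hv).symm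
  refine (Subgroup.eq_of_le_of_card_ge hQR ?_).symm
  rw [← card_cj k R]
  exact Subgroup.card_le_of_le h1

theorem Y_ne_top (L : Subgroup G) : Y L (zv p) 0 4 ≠ ⊤ := by
  intro e
  have h0 := Y_le L (zv p) 0 4
  rw [e] at h0
  have h1 : centralizer ({p 4} : Set G) = ⊤ := by
    refine top_le_iff.1 (h0.trans (centralizer_le (Set.singleton_subset_iff.2 (Or.inl rfl))))
  have h2 : normalizer (zpowers (p 4) : Set G) = ⊤ := by
    rw [Cfsg.Agent.MinSimple.Basic.normalizer_zpowers_eq (by rw [pow_two]; exact h.std.sq 4), h1]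
  have h3 := h.nonLoc (zpowers (p 4)) (Cfsg.Agent.MinSimple.Basic.isPGroup_zpowers (by rw [pow_two]; exact h.std.sq 4))
    (by rw [h2]; exact le_top) (by rw [h2]; exact le_top)
  exact h.std.ne 4 (zpowers_eq_bot.1 h3)

/-- **(NO)** -/
theorem no (hML : ML.Final.MLK.{u, u}) (hX : ¬ X (zv p) 1 2 ≤ normalizer (zl (S : Subgroup G) P : Set G))
    (hT : Syl (TT (S : Subgroup G) p) (Y (normalizer (zl (S : Subgroup G) P : Set G)) (zv p) 0 4)) :
    NoOn (o2 (X (zv p) 1 2)) (N (normalizer (zl (S : Subgroup G) P : Set G)) (zv p) 0 4) := by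
  intro F hF hFQ
  obtain ⟨L, hL⟩ : ∃ L : Subgroup G, L = normalizer (zl (S : Subgroup G) P : Set G) := ⟨_, rfl⟩
  have hfull : ∀ σ : Equiv.Perm (Fin 5), ∃ g ∈ L, ∀ a, g * zv p a * g⁻¹ = zv p (σ a) := by
    rw [hL]; exact full_L h
  have hwab := (wf_of h hX).wab (W := W (normalizer (zl (S : Subgroup G) P : Set G)) (zv p) 0) rfl
  rw [← hL] at hT hwab ⊢
  have hbot : normalizer ((⊥ : Subgroup G) : Set G) = ⊤ := normalizer_eq_top _
  have hXY : X (zv p) 1 2 ≤ Y L (zv p) 0 4 :=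
    MFive.Inst.X_le_Y (by decide) (by decide) (by decide) (by decide) (by decide)
  have hO : o2 (X (zv p) 1 2) ≤ X (zv p) 1 2 := Cfsg.Agent.ZN.o2_le _
  have hcz : ∀ g ∈ X (zv p) 1 2, g * zv p 3 = zv p 3 * g := fun g hg => mem_X.1 hg 3 (by decide) (by decide)
  have hYX : ∀ g ∈ Y L (zv p) 0 4, g * zv p 3 * g⁻¹ = zv p 3 → g ∈ X (zv p) 1 2 := by
    intro g hg h1
    have h2 := mem_centralizer_iff.1 (Y_le L (zv p) 0 4 hg)
    exact mem_X12.2 ⟨(h2 (p 4) (Or.inl rfl)).symm, comm_iff.1 h1, (h2 (p 3) (Or.inr rfl)).symm⟩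
  have key := hML.grp (h.ctx.kproper _ (Y_ne_top h L))
    (C := Y L (zv p) 0 4) (W := N L (zv p) 0 4) (Y := ⊥) (T := TT (S : Subgroup G) p) (Q := o2 (X (zv p) 1 2))
    (A := F) (w := zv p 3)
    { nW := nc_norm _ _
      nY := by rw [hbot]; exact le_top
      YW := bot_le
      WY := by rw [hbot]; exact le_top
      sq := fun x hx => by rw [hwab.1 x (N_le_W L (zv p) 0 4 hx)]; exact one_mem _
      mem := le_nc _ _ (subset_closure ⟨3, by decide, by decide, rfl⟩)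
      gen := by
        intro U hzU _ hCU
        refine nc_le ((closure_le _).2 ?_) hCU
        rintro _ ⟨c, hc0, hc4, rfl⟩
        obtain ⟨σ, h3, h0, h4⟩ := perm_three (a := 3) (b := 0) (c := 4) (a' := c) (b' := 0) (c' := 4)
          (by decide) (by decide) (by decide) hc0 hc4 (by decide)
        obtain ⟨g, hg, h5⟩ := hfull σ
        have hgY : g ∈ Y L (zv p) 0 4 := by
          refine mem_sup_left ⟨hg, mem_centralizer_iff.2 ?_⟩
          rintro y (rfl | rfl)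
          · exact (comm_iff.1 ((h5 0).trans (by rw [h0]))).symm
          · exact (comm_iff.1 ((h5 4).trans (by rw [h4]))).symm
        have h6 := h5 3
        rw [h3] at h6
        rw [← h6]
        exact (mem_normalizer_iff.1 (hCU hgY) _).1 hzU
      TC := hT.1
      two := hT.2.1
      odd := syl_not_dvd hT
      fixT := fun t ht => by
        rw [hcz t ht.2]
        simp
      QC := hO.trans hXY
      Q2 := ChoiceSit.isPGroup_o2 _
      fixQ := fun q hq => by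
        rw [hcz q (hO hq)]
        simp
      nrmQ := fun g hg h0 q hq => by
        have h1 : g * zv p 3 * g⁻¹ = zv p 3 := mul_inv_eq_one.1 (mem_bot.1 h0)
        exact (mem_normalizer_iff.1 (Cfsg.Agent.MinSimple.VModule.le_normalizer_o2 _ (hYX g hg h1)) q).1 hq
      AQ := hFQ
      Asq := fun a ha x hx => by
        have h1 : a ^ 2 = 1 := hF.2 a ha
        have e : a * (a * x * a⁻¹) * a⁻¹ * x⁻¹ = (a ^ 2) * x * (a ^ 2)⁻¹ * x⁻¹ := by simp [pow_two, mul_assoc]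
        rw [e, h1]
        simp }
    (KA := F ⊓ centralizer (N L (zv p) 0 4 : Set G)) (CW := N L (zv p) 0 4 ⊓ centralizer (F : Set G))
    (fun a => by
      rw [mem_inf, mem_centralizer_iff]
      refine and_congr_right fun _ => forall₂_congr fun x _ => ?_
      rw [mem_bot, mul_inv_eq_one, mul_inv_eq_iff_eq_mul]
      exact eq_comm)
    (fun x => by
      rw [mem_inf, mem_centralizer_iff]
      refine and_congr_right fun _ => forall₂_congr fun a _ => ?_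
      rw [mem_bot, mul_inv_eq_one, mul_inv_eq_iff_eq_mul])
  rwa [inf_relIndex_left, inf_relIndex_left] at key

/-- **The frame of THEOREM M5 over `FiveL`**, with (T6). -/
theorem pre (hML : ML.Final.MLK.{u, u}) (hz : Cfsg.Agent.ZN.zc (o2 P) = zl (S : Subgroup G) P)
    (hX : ¬ X (zv p) 1 2 ≤ normalizer (zl (S : Subgroup G) P : Set G)) :
    Pre (normalizer (zl (S : Subgroup G) P : Set G)) (TT (S : Subgroup G) p) (o2 P) (S : Subgroup G) (zv p) where
  sq a := h.std.sq _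
  comm a b := h.std.comm _ _
  prod := prod_z h
  inj := (zfv h).inj
  act g hg := act_norm h hg
  full := full_L h
  NL := by rw [V_zv h]
  TL := inf_le_left.trans (SL h)
  TX := inf_le_right
  syl := syl_Y h hz
  sylS := syl_S h
  SL := SL h
  c2 := (wf_of h hX).c2
  sylQ := sylQ h
  QT := Q_le_T h
  zQ := fun x hx hx2 hc => by
    rw [V_zv h, ← hz]
    exact ChoiceBase.mem_zc.2 ⟨hx, by rw [pow_two]; exact hx2, hc⟩
  mv := exists_t h
  no := no h hML hX (syl_Y h hz)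

/-- **THEOREM M5 over `FiveL`**: `⟨N_G(V), C_G(p 2, p 3, p 4)⟩` is 2-local. -/
theorem local_five (hML : ML.Final.MLK.{u, u}) (hz : Cfsg.Agent.ZN.zc (o2 P) = zl (S : Subgroup G) P) :
    ∃ R : Subgroup G, R ≠ ⊥ ∧ IsPGroup 2 R ∧ normalizer (zl (S : Subgroup G) P : Set G) ≤ normalizer (R : Set G) ∧
      centralizer {p 2, p 3, p 4} ≤ normalizer (R : Set G) := by
  have hle : centralizer {p 2, p 3, p 4} ≤ X (zv p) 1 2 := by
    intro x hx
    rw [mem_centralizer_iff] at hx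
    exact mem_X12.2 ⟨(hx (p 4) (by simp)).symm, (hx (p 2) (by simp)).symm, (hx (p 3) (by simp)).symm⟩
  by_cases hX : X (zv p) 1 2 ≤ normalizer (zl (S : Subgroup G) P : Set G)
  · refine ⟨zl (S : Subgroup G) P, ?_, S.isPGroup'.to_le h.V_le, le_rfl, hle.trans hX⟩
    intro e
    have h1 := h.p_mem 4
    rw [e] at h1
    exact h.std.ne 4 (mem_bot.1 h1)
  · obtain ⟨R, h1, h2, h3, h4⟩ := ((pre h hML hz hX).fr5 hX).local
    exact ⟨R, h1, h2, h3, hle.trans h4⟩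

/-- THEOREM M5 at every stage `StgG`. -/
theorem local_stg {K B ZJ : Subgroup G} (hML : ML.Final.MLK.{u, u}) (hN : HypN S P) (hs : StgG S P K B ZJ) :
    ∃ R : Subgroup G, R ≠ ⊥ ∧ IsPGroup 2 R ∧ normalizer (zl (S : Subgroup G) P : Set G) ≤ normalizer (R : Set G) ∧
      centralizer {p 2, p 3, p 4} ≤ normalizer (R : Set G) :=
  local_five h hML (zc_o2_stg hN hs)

end frame

end Cfsg.Agent.Omega.NO3S.MFive.Inst

end

end
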